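import Mathlib

/-!
# Words in the Coxeter generators of the a path of eight

A certificate is a list of moves rewriting one word into another by the Coxeter relations. The
generators `a, …, i` are numbered `0, …, 8`.
-/

set_option autoImplicit false

namespace Cfsg.Agent.ThreeTrans.Y542.Path

/-- The edges. -/
def adj (s t : ℕ) : Bool := s + 1 == t || t + 1 == s

/-- The move of kind `k` at the head of a word. -/
def atHead : ℕ → List ℕ → Option (List ℕ)
  | 0, s :: t :: w => if s == t then some w else none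
  | 1, s :: t :: w => if (s == t || adj s t) then none else some (t :: s :: w)
  | 2, s :: t :: u :: w => if (adj s t && s == u) then some (t :: s :: t :: w) else none
  | _, _ => none

/-- The move of kind `k` at position `p`. -/
def atPos (k : ℕ) : ℕ → List ℕ → Option (List ℕ)
  | 0, w => atHead k w
  | _ + 1, [] => none
  | p + 1, x :: w => (atPos k p w).map (x :: ·)

/-- A list of moves, the move of kind `k` at `p` coded by `3 * p + k`. -/
def moves : List ℕ → List ℕ → Option (List ℕ)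
  | [], w => some w
  | c :: cs, w => (atPos (c % 3) (c / 3) w).bind (moves cs)

/-- Several lists of moves. -/
def runs : List (List ℕ) → List ℕ → Option (List ℕ)
  | [], w => some w
  | l :: ls, w => (moves l w).bind (runs ls)

/-- Both words can be rewritten into the third. -/
def equiv (p q : List (List ℕ)) (u v t : List ℕ) : Bool :=
  u.all (· < 8) && v.all (· < 8) && runs p u == some t && runs q v == some t

/-- The reversal of the path. -/
def wg : List ℕ := [0, 1, 2, 3, 4, 5, 6, 7, 0, 1, 2, 3, 4, 5, 6, 0, 1, 2, 3, 4, 5, 0, 1, 2, 3, 4, 0, 1, 2, 3, 0, 1, 2, 0, 1, 0]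

theorem wg0 : equiv [[105]] [[1, 4, 7, 10, 13, 16, 20, 25, 28, 31, 34, 37, 41, 46, 49, 52, 55, 59, 64, 67, 70, 74, 79, 82, 86, 91, 95, 101, 105]] (wg ++ [0]) (7 :: wg)
    [0, 1, 2, 3, 4, 5, 6, 7, 0, 1, 2, 3, 4, 5, 6, 0, 1, 2, 3, 4, 5, 0, 1, 2, 3, 4, 0, 1, 2, 3, 0, 1, 2, 0, 1] = true := by decide +kernel

theorem wg1 : equiv [[101, 105]] [[1, 4, 7, 10, 13, 17, 22, 25, 28, 31, 34, 38, 43, 46, 49, 52, 56, 61, 64, 67, 71, 76, 79, 83, 88, 92, 97, 99]] (wg ++ [1]) (6 :: wg)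
    [0, 1, 2, 3, 4, 5, 6, 7, 0, 1, 2, 3, 4, 5, 6, 0, 1, 2, 3, 4, 5, 0, 1, 2, 3, 4, 0, 1, 2, 3, 0, 1, 2, 1, 0] = true := by decide +kernel

theorem wg2 : equiv [[97, 92, 98, 103, 105, 94]] [[1, 4, 7, 10, 14, 19, 22, 25, 28, 31, 35, 40, 43, 46, 49, 53, 58, 61, 64, 68, 73, 76, 80, 85, 88, 90]] (wg ++ [2]) (5 :: wg)
    [0, 1, 2, 3, 4, 5, 6, 7, 0, 1, 2, 3, 4, 5, 6, 0, 1, 2, 3, 4, 5, 0, 1, 2, 3, 4, 0, 1, 2, 3, 1, 2, 0, 1, 0] = true := by decide +kernel

theorem wg3 : equiv [[88, 91, 85, 80, 86, 92, 97, 100, 103, 105, 88, 82, 85]] [[1, 4, 7, 11, 16, 19, 22, 25, 28, 32, 37, 40, 43, 46, 50, 55, 58, 61, 65, 70, 73, 76, 78]] (wg ++ [3]) (4 :: wg)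
    [0, 1, 2, 3, 4, 5, 6, 7, 0, 1, 2, 3, 4, 5, 6, 0, 1, 2, 3, 4, 5, 0, 1, 2, 3, 4, 1, 2, 3, 0, 1, 2, 0, 1, 0] = true := by decide +kernel

theorem wg4 : equiv [[76, 79, 82, 73, 76, 70, 65, 71, 77, 83, 88, 91, 94, 97, 100, 103, 105, 79, 73, 76, 67, 70, 73]] [[1, 4, 8, 13, 16, 19, 22, 25, 29, 34, 37, 40, 43, 47, 52, 55, 58, 61, 63]] (wg ++ [4]) (3 :: wg)
    [0, 1, 2, 3, 4, 5, 6, 7, 0, 1, 2, 3, 4, 5, 6, 0, 1, 2, 3, 4, 5, 1, 2, 3, 4, 0, 1, 2, 3, 0, 1, 2, 0, 1, 0] = true := by decide +kernel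

theorem wg5 : equiv [[61, 64, 67, 70, 58, 61, 64, 55, 58, 52, 47, 53, 59, 65, 71, 76, 79, 82, 85, 88, 91, 94, 97, 100, 103, 105, 67, 61, 64, 55, 58, 61, 49, 52, 55, 58]] [[1, 5, 10, 13, 16, 19, 22, 26, 31, 34, 37, 40, 43, 45]] (wg ++ [5]) (2 :: wg)
    [0, 1, 2, 3, 4, 5, 6, 7, 0, 1, 2, 3, 4, 5, 6, 1, 2, 3, 4, 5, 0, 1, 2, 3, 4, 0, 1, 2, 3, 0, 1, 2, 0, 1, 0] = true := by decide +kernel

theorem wg6 : equiv [[43, 46, 49, 52, 55, 40, 43, 46, 49, 37, 40, 43, 34, 37, 31, 26, 32, 38, 44, 50, 56, 61, 64, 67, 70, 73, 76, 79, 82, 85, 88, 91, 94, 97, 100, 103, 105, 52, 46, 49, 40, 43, 46, 34, 37, 40, 43, 28, 31, 34, 37, 40]] [[2, 7, 10, 13, 16, 19, 22, 24]] (wg ++ [6]) (1 :: wg)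
    [0, 1, 2, 3, 4, 5, 6, 7, 1, 2, 3, 4, 5, 6, 0, 1, 2, 3, 4, 5, 0, 1, 2, 3, 4, 0, 1, 2, 3, 0, 1, 2, 0, 1, 0] = true := by decide +kernel

theorem wg7 : equiv [[22, 25, 28, 31, 34, 37, 19, 22, 25, 28, 31, 16, 19, 22, 25, 13, 16, 19, 10, 13, 7, 2, 8, 14, 20, 26, 32, 38, 43, 46, 49, 52, 55, 58, 61, 64, 67, 70, 73, 76, 79, 82, 85, 88, 91, 94, 97, 100, 103, 105, 34, 28, 31, 22, 25, 28, 16, 19, 22, 25, 10, 13, 16, 19, 22, 4, 7, 10, 13, 16, 19]] [[0]] (wg ++ [7]) (0 :: wg)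
    [1, 2, 3, 4, 5, 6, 7, 0, 1, 2, 3, 4, 5, 6, 0, 1, 2, 3, 4, 5, 0, 1, 2, 3, 4, 0, 1, 2, 3, 0, 1, 2, 0, 1, 0] = true := by decide +kernel

theorem wg_lt : ∀ x ∈ wg, x < 8 := by decide

variable {G : Type*} [Group G]

/-- The value of a word. -/
def ev (n : ℕ → G) (w : List ℕ) : G := (w.map n).prod

@[simp] theorem ev_nil (n : ℕ → G) : ev n [] = 1 := rfl

@[simp] theorem ev_cons (n : ℕ → G) (x : ℕ) (w : List ℕ) : ev n (x :: w) = n x * ev n w :=
  List.prod_cons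

@[simp] theorem ev_append (n : ℕ → G) (u v : List ℕ) : ev n (u ++ v) = ev n u * ev n v := by
  simp [ev]

/-- Involutions with the relations of the graph. -/
structure Rels (n : ℕ → G) : Prop where
  sq : ∀ x < 8, n x * n x = 1
  braid : ∀ x < 8, ∀ y < 8, adj x y = true → n x * n y * n x = n y * n x * n y
  comm : ∀ x < 8, ∀ y < 8, adj x y = false → Commute (n x) (n y)

variable {n : ℕ → G} (h : Rels n)
include h

theorem atHead_sound {k : ℕ} {w w' : List ℕ} (hw : ∀ x ∈ w, x < 8) (e : atHead k w = some w') :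
    ev n w' = ev n w ∧ ∀ x ∈ w', x < 8 := by
  unfold atHead at e
  split at e
  · split at e
    · rename_i s t w hst
      obtain rfl := eq_of_beq hst
      cases e
      simp only [List.mem_cons, forall_eq_or_imp] at hw
      exact ⟨by rw [ev_cons, ev_cons, ← mul_assoc, h.sq _ hw.1, one_mul], hw.2.2⟩
    · exact absurd e (by simp)
  · split at e
    · exact absurd e (by simp)
    · rename_i s t w hst
      cases e
      simp only [List.mem_cons, forall_eq_or_imp] at hw ⊢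
      simp only [Bool.or_eq_true, not_or, Bool.not_eq_true, beq_iff_eq] at hst
      refine ⟨?_, hw.2.1, hw.1, hw.2.2⟩
      simp only [ev_cons, ← mul_assoc, (h.comm s hw.1 t hw.2.1 hst.2).eq]
  · split at e
    · rename_i s t u w hst
      cases e
      simp only [Bool.and_eq_true, beq_iff_eq] at hst
      obtain ⟨hadj, rfl⟩ := hst
      simp only [List.mem_cons, forall_eq_or_imp] at hw ⊢
      refine ⟨?_, hw.2.1, hw.1, hw.2.1, hw.2.2.2⟩
      simp only [ev_cons, ← mul_assoc, h.braid s hw.1 t hw.2.1 hadj]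
    · exact absurd e (by simp)
  · exact absurd e (by simp)

theorem atPos_sound {k p : ℕ} {w w' : List ℕ} (hw : ∀ x ∈ w, x < 8) (e : atPos k p w = some w') :
    ev n w' = ev n w ∧ ∀ x ∈ w', x < 8 := by
  induction w generalizing p w' with
  | nil =>
    cases p with
    | zero => exact atHead_sound h hw e
    | succ p => simp [atPos] at e
  | cons y w ih =>
    cases p with
    | zero => exact atHead_sound h hw e
    | succ p =>
      obtain ⟨v, hv, rfl⟩ := Option.map_eq_some_iff.1 e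
      simp only [List.mem_cons, forall_eq_or_imp] at hw ⊢
      obtain ⟨e1, e2⟩ := ih hw.2 hv
      exact ⟨by simp [e1], hw.1, e2⟩

theorem moves_sound {cs w w' : List ℕ} (hw : ∀ x ∈ w, x < 8) (e : moves cs w = some w') :
    ev n w' = ev n w ∧ ∀ x ∈ w', x < 8 := by
  induction cs generalizing w with
  | nil =>
    cases e
    exact ⟨rfl, hw⟩
  | cons c cs ih =>
    obtain ⟨v, hv, hv'⟩ := Option.bind_eq_some_iff.1 e
    obtain ⟨e1, e2⟩ := atPos_sound h hw hv
    obtain ⟨e3, e4⟩ := ih e2 hv'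
    exact ⟨e3.trans e1, e4⟩

theorem runs_sound {ls : List (List ℕ)} {w w' : List ℕ} (hw : ∀ x ∈ w, x < 8)
    (e : runs ls w = some w') : ev n w' = ev n w ∧ ∀ x ∈ w', x < 8 := by
  induction ls generalizing w with
  | nil =>
    cases e
    exact ⟨rfl, hw⟩
  | cons c cs ih =>
    obtain ⟨v, hv, hv'⟩ := Option.bind_eq_some_iff.1 e
    obtain ⟨e1, e2⟩ := moves_sound h hw hv
    obtain ⟨e3, e4⟩ := ih e2 hv'
    exact ⟨e3.trans e1, e4⟩

/-- Certified words have one value. -/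
theorem ev_eq {p q : List (List ℕ)} {u v t : List ℕ} (e : equiv p q u v t = true) :
    ev n u = ev n v := by
  simp only [equiv, Bool.and_eq_true, beq_iff_eq, List.all_eq_true, decide_eq_true_eq] at e
  obtain ⟨⟨⟨hu, hv⟩, ep⟩, eq'⟩ := e
  exact ((runs_sound h hu ep).1).symm.trans (runs_sound h hv eq').1


/-- The reversal conjugates each node to the opposite one. -/
theorem wg_conj {x : ℕ} (hx : x < 8) : ev n wg * n x = n (7 - x) * ev n wg := by
  interval_cases x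
  · simpa using ev_eq h wg0
  · simpa using ev_eq h wg1
  · simpa using ev_eq h wg2
  · simpa using ev_eq h wg3
  · simpa using ev_eq h wg4
  · simpa using ev_eq h wg5
  · simpa using ev_eq h wg6
  · simpa using ev_eq h wg7

end Cfsg.Agent.ThreeTrans.Y542.Path
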