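import Cfsg.Agent.ThreeTrans.Y542.Relator
import Cfsg.Agent.ThreeTrans.Y542.Path
import Cfsg.Agent.Fi24.Simple

/-!
# Every group of type M(24) is the presented Fischer group Fi₂₄
-/

set_option autoImplicit false
set_option maxRecDepth 100000

open Cfsg

universe u

namespace Cfsg.Agent.ThreeTrans.Y542

open Cfsg.Spor Cfsg.Spor.Fi24
open Y332 (ev ev_append ev_cons ev_nil pw ev_pw)

/-- The number of a generator; `k` and `l` are the last two. -/
def num : Gen → ℕ
  | .a => 0
  | .b => 1
  | .c => 2
  | .d => 3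
  | .e => 4
  | .f => 5
  | .g => 6
  | .j => 7
  | .h => 8
  | .i => 9
  | .k => 10
  | .l => 11

/-- The edges. -/
def adj12 (x y : ℕ) : Bool :=
  [(0, 1), (1, 2), (2, 3), (3, 4), (4, 5), (5, 6), (6, 7), (3, 8), (8, 9), (0, 10), (10, 11)].any
    fun e => e == (x, y) || e == (y, x)

theorem label_eq (x y : Gen) :
    coxLabel edges x y = if x = y then 1 else if adj12 (num x) (num y) then 3 else 2 := by
  cases x <;> cases y <;> rfl

theorem adj12_checks : ((List.range 10).all fun x => (List.range 10).all fun y =>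
    if adj12 x y then ncCheck [x] [y] else cmCheck [x] [y]) = true := by
  decide +kernel

theorem k_adj : ∀ x < 10, adj12 10 x = decide (x = 0) := by decide

theorem l_adj : ∀ x < 10, adj12 11 x = false := by decide

theorem adj12_symm : ∀ x < 12, ∀ y < 12, adj12 x y = adj12 y x := by decide

theorem extra1_check : idCheck (pw [0, 1, 2, 3, 4, 5, 8] 9) = true := by decide +kernel

/-- The pattern of the image of `e`. -/
def bPat : List (Nat × Bool) :=
  [(0, false), (5, false), (1, true), (2, true), (3, true), (8, true), (9, true), (6, true), (7, true)]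

theorem b_checks : pattCheck bPat 5262 = true ∧
    (bPat.all fun e => if e.2 then cmCheck [e.1] bW else ncCheck [e.1] bW) = true ∧
    lt10 bW = true ∧ isPal 0 bW = true ∧ bW.length % 2 = 1 := by
  decide +kernel

/-- The number of a node of the path `i h d c b a k l`. -/
def pn : ℕ → ℕ
  | 0 => 9
  | 1 => 8
  | 2 => 3
  | 3 => 2
  | 4 => 1
  | 5 => 0
  | 6 => 10
  | _ => 11

theorem path_adj : ∀ s < 8, ∀ t < 8, Path.adj s t = adj12 (pn s) (pn t) := by decide

theorem path_far : ∀ s < 8, adj12 (pn s) 5 = false ∧ adj12 (pn s) 6 = false ∧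
    adj12 (pn s) 7 = false := by decide

variable {G : Type u} [Group G] [Finite G] {D : Set G}

theorem IsChart.commute_of_theta {φ : G →* ℤˣ} {l : G} {g : ℕ → G}
    {θ : ↥(Subgroup.centralizer ({l} : Set G)) →* F23} (hC : IsChart D φ l g θ) {y z : G}
    (hy : y ∈ Subgroup.centralizer ({l} : Set G)) (hz : z ∈ Subgroup.centralizer ({l} : Set G))
    (h : Commute (θ ⟨y, hy⟩) (θ ⟨z, hz⟩)) : Commute y z := by
  refine hC.ext (mul_mem hy hz) (mul_mem hz hy) ?_ (by rw [map_mul, map_mul, mul_comm])
  calc θ ⟨y * z, mul_mem hy hz⟩ = θ ⟨y, hy⟩ * θ ⟨z, hz⟩ := map_mul θ ⟨y, hy⟩ ⟨z, hz⟩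
    _ = θ ⟨z, hz⟩ * θ ⟨y, hy⟩ := h.eq
    _ = θ ⟨z * y, mul_mem hz hy⟩ := (map_mul θ ⟨z, hz⟩ ⟨y, hy⟩).symm

/-- Every group of type M(24) is isomorphic to the presented Fi₂₄, the generators going to members. -/
theorem exists_iso (hD : IsThreeTranspositionGroup D) (hprim : IsPrimitiveUnderConj D)
    (h24 : IsOfTypeM24 G D) : ∃ e : Spor.Fi24 ≃* G, ∀ x : Gen, e (PresentedGroup.of x) ∈ D := by
  obtain ⟨φ, l, k, g, θ, hC, hk, hkl, hkg⟩ := exists_cfg24 hD hprim h24
  have hg1 : ∀ x, ev g [x] = g x := fun x => by simp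
  set F : ℕ → G := fun x => if x = 10 then k else if x = 11 then l else g x with hF
  have hF10 : ∀ x < 10, F x = g x := fun x hx => by
    simp only [hF, if_neg (by omega : x ≠ 10), if_neg (by omega : x ≠ 11)]
  have hFk : F 10 = k := rfl
  have hFl : F 11 = l := rfl
  have hFD : ∀ x, F x ∈ D := fun x => by
    simp only [hF]; split_ifs
    exacts [hk, hC.hl, (hC.mem x).1]
  have hc12 : ∀ x < 12, ∀ y < 12, (Commute (F x) (F y) ↔ adj12 x y = false) := by
    suffices key : ∀ x < 12, ∀ y < 12, y ≤ x → (Commute (F x) (F y) ↔ adj12 x y = false) by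
      intro x hx y hy
      rcases le_total y x with h | h
      · exact key x hx y hy h
      · rw [Commute.symm_iff, adj12_symm x hx y hy]
        exact key y hy x hx h
    intro x hx y hy hyx
    rcases lt_or_ge x 10 with hx10 | hx10
    · rw [hF10 x hx10, hF10 y (by omega)]
      have h := List.all_eq_true.1 (List.all_eq_true.1 adj12_checks x (List.mem_range.2 hx10)) y
        (List.mem_range.2 (by omega : y < 10))
      split_ifs at h with hadj
      · refine iff_of_false ?_ (by simp [hadj])
        simpa [hg1] using hC.not_commute_ev h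
      · refine iff_of_true ?_ (by simpa using hadj)
        simpa [hg1] using hC.commute_ev h
    interval_cases x
    · rw [hFk]
      rcases lt_or_ge y 10 with hy10 | hy10
      · rw [hF10 y hy10, k_adj y hy10, hkg y hy10]
        simp
      · obtain rfl : y = 10 := by omega
        exact iff_of_true (hFk ▸ Commute.refl k) rfl
    · rw [hFl]
      rcases lt_or_ge y 10 with hy10 | hy10
      · rw [hF10 y hy10]
        exact iff_of_true (hC.mem y).2.2 (l_adj y hy10)
      · interval_cases y
        · exact iff_of_false (fun h => hkl h.symm) (by decide)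
        · exact iff_of_true (hFl ▸ Commute.refl l) rfl
  -- the path `i h d c b a k l`
  set P : ℕ → G := fun s => F (pn s) with hP
  have hpn : ∀ s < 8, pn s < 12 := by decide
  have hr : Path.Rels P := ⟨fun s _ => mul_self hD.1 (hFD _),
    fun s hs t ht h => braid hD.1 (hFD _) (hFD _) fun hc => by
      rw [hc12 _ (hpn s hs) _ (hpn t ht), ← path_adj s hs t ht, h] at hc
      simp at hc,
    fun s hs t ht h => (hc12 _ (hpn s hs) _ (hpn t ht)).2 (by rw [← path_adj s hs t ht, h])⟩
  set Γ := Path.ev P Path.wg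
  have hΓ : ∀ s < 8, Γ * P s * Γ⁻¹ = P (7 - s) := fun s hs => by
    rw [Path.wg_conj hr hs, mul_inv_cancel_right]
  have hfix : ∀ x, x = 5 ∨ x = 6 ∨ x = 7 → Γ * g x * Γ⁻¹ = g x := by
    intro x hx
    have hcw : ∀ v : List ℕ, (∀ s ∈ v, s < 8) → Commute (Path.ev P v) (g x) := by
      intro v
      induction v with
      | nil => exact fun _ => Commute.one_left _
      | cons s v ih =>
        intro hv
        simp only [List.mem_cons, forall_eq_or_imp] at hv
        rw [Path.ev_cons]
        refine Commute.mul_left ?_ (ih hv.2)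
        rw [hP, ← hF10 x (by omega)]
        obtain ⟨h5, h6, h7⟩ := path_far s hv.1
        refine (hc12 _ (hpn s hv.1) x (by omega)).2 ?_
        rcases hx with rfl | rfl | rfl <;> assumption
    rw [(hcw _ Path.wg_lt).eq, mul_inv_cancel_right]
  -- the image of `e`
  set β := Γ * g 4 * Γ⁻¹ with hβ
  have hβD : β ∈ D := hD.2.1 _ _ (hC.mem 4).1
  have himg : ∀ x < 10, ∀ y < 12, Γ * F y * Γ⁻¹ = g x →
      (Commute (g x) β ↔ adj12 y 4 = false) := by
    intro x _ y hy h
    rw [← h, hβ, Commute.conj_iff, ← hF10 4 (by norm_num)]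
    exact hc12 y hy 4 (by norm_num)
  have hl0 : Γ * g 9 * Γ⁻¹ = l := by
    have := hΓ 0 (by norm_num)
    simpa [hP, pn, hF] using this
  have hβl : β ∈ dperp D l := by
    refine ⟨hβD, fun e => ?_, ?_⟩
    · rw [← hl0, hβ] at e
      have h := mul_left_cancel (mul_right_cancel e)
      refine hC.ev_ne (u := [4]) (v := [9]) rfl rfl (by decide +kernel) (by rw [hg1, hg1]; exact h)
    · rw [← hl0, hβ, Commute.conj_iff, ← hF10 4 (by norm_num), ← hF10 9 (by norm_num)]
      exact (hc12 9 (by norm_num) 4 (by norm_num)).2 rfl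
  have hβev : β = ev g bW := by
    obtain ⟨b1, b2, b3, b4, b5⟩ := b_checks
    have hbm : ev g bW ∈ dperp D l := by
      rw [of_decide_eq_true b4]
      exact hC.word_mem hD _ _
    refine hC.ext (dperp_le hβl) (dperp_le hbm) ?_ ?_
    swap
    · rw [hC.sgn _ hβD, hC.sign_ev, Int.units_pow_eq_pow_mod_two, b5, pow_one]
    refine eq_of_pattern b1 (hC.conj _ hβl _) (hC.conj _ hbm _) (fun p hp => ?_) fun p hp => ?_
    · have hp10 : p.1 < 10 := by revert p; decide
      have hiff : Commute (g p.1) β ↔ p.2 = true := by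
        simp only [bPat, List.mem_cons, List.not_mem_nil, or_false] at hp
        rcases hp with rfl | rfl | rfl | rfl | rfl | rfl | rfl | rfl | rfl
        · rw [himg 0 (by norm_num) 3 (by norm_num) (by simpa [hP, pn, hF] using hΓ 2 (by norm_num))]
          decide
        · rw [himg 5 (by norm_num) 5 (by norm_num) (by rw [hF10 5 (by norm_num)]; exact hfix 5 (by simp))]
          decide
        · rw [himg 1 (by norm_num) 2 (by norm_num) (by simpa [hP, pn, hF] using hΓ 3 (by norm_num))]
          decide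
        · rw [himg 2 (by norm_num) 1 (by norm_num) (by simpa [hP, pn, hF] using hΓ 4 (by norm_num))]
          decide
        · rw [himg 3 (by norm_num) 0 (by norm_num) (by simpa [hP, pn, hF] using hΓ 5 (by norm_num))]
          decide
        · rw [himg 8 (by norm_num) 10 (by norm_num) (by simpa [hP, pn, hF] using hΓ 6 (by norm_num))]
          decide
        · rw [himg 9 (by norm_num) 11 (by norm_num) (by simpa [hP, pn, hF] using hΓ 7 (by norm_num))]
          decide
        · rw [himg 6 (by norm_num) 6 (by norm_num) (by rw [hF10 6 (by norm_num)]; exact hfix 6 (by simp))]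
          decide
        · rw [himg 7 (by norm_num) 7 (by norm_num) (by rw [hF10 7 (by norm_num)]; exact hfix 7 (by simp))]
          decide
      rw [← hC.img p.1 hp10 (dperp_le (hC.mem p.1)), ← hiff]
      exact ⟨hC.commute_of_theta _ _, hC.theta_commute _ _⟩
    · have h := List.all_eq_true.1 b2 p hp
      rw [hC.theta_ev (lt10_spec b3)]
      cases hb : p.2
      · rw [hb] at h
        exact iff_of_false (not_commute_of h) Bool.false_ne_true
      · rw [hb] at h
        exact iff_of_true (commute_of h) rfl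
  have h17 := rel17 hD hprim h24 hC hk hkl hkg
  -- the homomorphism
  set f : Gen → G := fun x => F (num x) with hf
  have hnum : ∀ x, num x < 12 := fun x => by cases x <;> decide
  have hinjn : ∀ x y, num x = num y → x = y := fun x y => by cases x <;> cases y <;> simp [num]
  have hrel : ∀ r ∈ coxRelators edges ∪ {r | r ∈ extra}, FreeGroup.lift f r = 1 := by
    rintro r (⟨x, -, y, -, rfl⟩ | hr')
    · rw [map_pow, map_mul, FreeGroup.lift_apply_of, FreeGroup.lift_apply_of, label_eq]
      split_ifs with hxy hadj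
      · subst hxy
        rw [pow_one]
        exact mul_self hD.1 (hFD _)
      · refine cube_of_not_commute hD.1 (hFD _) (hFD _) fun h => ?_
        rw [(hc12 _ (hnum x) _ (hnum y)).1 h] at hadj
        simp at hadj
      · have h : Commute (f x) (f y) := (hc12 _ (hnum x) _ (hnum y)).2 (by simpa using hadj)
        rw [h.mul_pow, pow_two, pow_two, mul_self hD.1 (hFD _), one_mul, mul_self hD.1 (hFD _)]
    · simp only [extra, List.mem_cons, List.not_mem_nil, or_false, Set.mem_ofPred_eq] at hr'
      rcases hr' with rfl | rfl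
      · simp only [map_pow, map_mul, map_inv, FreeGroup.lift_apply_of, hf, num, hF,
          if_true, (by decide : (11 : ℕ) ≠ 10), (by decide : (0 : ℕ) ≠ 10), (by decide : (1 : ℕ) ≠ 10),
          (by decide : (2 : ℕ) ≠ 10), (by decide : (3 : ℕ) ≠ 10), (by decide : (4 : ℕ) ≠ 10),
          (by decide : (5 : ℕ) ≠ 10), (by decide : (8 : ℕ) ≠ 10), (by decide : (0 : ℕ) ≠ 11),
          (by decide : (1 : ℕ) ≠ 11), (by decide : (2 : ℕ) ≠ 11), (by decide : (3 : ℕ) ≠ 11),
          (by decide : (4 : ℕ) ≠ 11), (by decide : (5 : ℕ) ≠ 11), (by decide : (8 : ℕ) ≠ 11), if_false]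
        rw [mul_inv_eq_one,
          show g 0 * g 1 * g 2 * g 3 * g 4 * g 5 * g 8 = ev g [0, 1, 2, 3, 4, 5, 8] from by
            simp [mul_assoc], ← ev_pw]
        refine hC.ext (Subgroup.mem_centralizer_singleton_iff.2 rfl) (hC.ev_mem _) ?_ ?_
        · rw [hC.theta_ev (by decide), gw_eq_one extra1_check]
          exact (hC.ker _).2 (Or.inr rfl)
        · rw [hC.sign_ev, hC.sgn l hC.hl, Int.units_pow_eq_pow_mod_two]
          simp [pw]
      · simp only [map_pow, map_mul, FreeGroup.lift_apply_of, hf, num]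
        refine (MulAut.conj Γ).injective ?_
        have q : ∀ s < 8, MulAut.conj Γ (F (pn s)) = F (pn (7 - s)) := fun s hs => hΓ s hs
        have q5 : ∀ x, x = 5 ∨ x = 6 ∨ x = 7 → MulAut.conj Γ (F x) = g x := fun x hx => by
          rw [hF10 x (by omega)]; exact hfix x hx
        have q4 : MulAut.conj Γ (F 4) = ev g bW := by
          rw [hF10 4 (by norm_num), MulAut.conj_apply, ← hβev]
        have i3 : MulAut.conj Γ (F 3) = g 0 := (q 2 (by norm_num)).trans (hF10 0 (by norm_num))
        have i2 : MulAut.conj Γ (F 2) = g 1 := (q 3 (by norm_num)).trans (hF10 1 (by norm_num))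
        have i1 : MulAut.conj Γ (F 1) = g 2 := (q 4 (by norm_num)).trans (hF10 2 (by norm_num))
        have i0 : MulAut.conj Γ (F 0) = g 3 := (q 5 (by norm_num)).trans (hF10 3 (by norm_num))
        have i10 : MulAut.conj Γ (F 10) = g 8 := (q 6 (by norm_num)).trans (hF10 8 (by norm_num))
        have i11 : MulAut.conj Γ (F 11) = g 9 := (q 7 (by norm_num)).trans (hF10 9 (by norm_num))
        have i8 : MulAut.conj Γ (F 8) = k := q 1 (by norm_num)
        have i9 : MulAut.conj Γ (F 9) = l := q 0 (by norm_num)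
        simp only [map_pow, map_mul, map_one, i3, i2, i1, i0, i10, i11, i8, i9, q4,
          q5 5 (by simp), q5 6 (by simp), q5 7 (by simp)]
        refine Eq.trans ?_ h17
        congr 1
        simp [qW, ev_append, mul_assoc]
  set Φ := PresentedGroup.toGroup hrel
  have hΦ : ∀ x, Φ (PresentedGroup.of x) = f x := fun x => PresentedGroup.toGroup.of hrel
  -- surjective, by primitivity
  set R := Φ.range
  have hFR : ∀ x < 12, F x ∈ R := by
    intro x hx
    obtain ⟨y, rfl⟩ : ∃ y, num y = x := by
      interval_cases x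
      exacts [⟨.a, rfl⟩, ⟨.b, rfl⟩, ⟨.c, rfl⟩, ⟨.d, rfl⟩, ⟨.e, rfl⟩, ⟨.f, rfl⟩, ⟨.g, rfl⟩,
        ⟨.j, rfl⟩, ⟨.h, rfl⟩, ⟨.i, rfl⟩, ⟨.k, rfl⟩, ⟨.l, rfl⟩]
    exact ⟨PresentedGroup.of y, hΦ y⟩
  have hlR : l ∈ R := hFR 11 (by norm_num)
  have hCR : ∀ c ∈ Subgroup.centralizer ({l} : Set G), c ∈ R := by
    intro c hc
    obtain ⟨v, hv, hvw⟩ : ∃ v : List Nat, (∀ x ∈ v, x < 10) ∧ gw v = θ ⟨c, hc⟩ := by
      generalize θ ⟨c, hc⟩ = u
      induction u using PresentedGroup.induction_on with
      | _ z =>
        induction z using FreeGroup.induction_on with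
        | C1 => exact ⟨[], by simp, gw_nil.trans (map_one _).symm⟩
        | of y =>
          refine ⟨[CosetCert.Fi23Index31671.enc y], by cases y <;> simp [CosetCert.Fi23Index31671.enc], ?_⟩
          cases y <;> rfl
        | inv_of y ih =>
          obtain ⟨v, hv, h⟩ := ih
          exact ⟨v.reverse, by simpa using hv, by rw [gw_reverse hv, h, map_inv]⟩
        | mul y z iy iz =>
          obtain ⟨v, hv, h⟩ := iy
          obtain ⟨v', hv', h'⟩ := iz
          exact ⟨v ++ v', fun x hx => (List.mem_append.1 hx).elim (hv x) (hv' x),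
            by rw [gw_append, h, h', map_mul]⟩
    have hev : ev g v ∈ R := by
      clear hvw
      induction v with
      | nil => exact one_mem _
      | cons x v ih =>
        simp only [List.mem_cons, forall_eq_or_imp] at hv
        rw [ev_cons, ← hF10 x hv.1]
        exact mul_mem (hFR x (by omega)) (ih hv.2)
    have h1 : θ (⟨c, hc⟩ * ⟨ev g v, hC.ev_mem v⟩⁻¹) = 1 := by
      rw [map_mul, map_inv, hC.theta_ev hv, hvw, mul_inv_cancel]
    have hc' : c = c * (ev g v)⁻¹ * ev g v := by rw [inv_mul_cancel_right]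
    rw [hc']
    refine mul_mem ?_ hev
    rcases (hC.ker _).1 h1 with e | e <;> simp only [Subgroup.coe_mul, Subgroup.coe_inv] at e <;>
      rw [e]
    exacts [one_mem _, hlR]
  have hR : R = ⊤ := by
    set B : Set G := {x | ∃ r ∈ R, r * l * r⁻¹ = x}
    have hBD : B ⊆ D := by rintro x ⟨r, -, rfl⟩; exact hD.2.1 _ _ hC.hl
    have hcl : ∀ a : G, a * l * a⁻¹ = l → a ∈ R := fun a ha => hCR a
      (Subgroup.mem_centralizer_singleton_iff.2 (mul_inv_eq_iff_eq_mul.1 ha))
    have hblock : ∀ a : G, (fun x => a * x * a⁻¹) '' B = B ∨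
        Disjoint ((fun x => a * x * a⁻¹) '' B) B := by
      intro a
      by_cases ha : a ∈ R
      · left
        ext x
        constructor
        · rintro ⟨-, ⟨r, hr', rfl⟩, rfl⟩
          exact ⟨a * r, mul_mem ha hr', by group⟩
        · rintro ⟨r, hr', rfl⟩
          exact ⟨_, ⟨a⁻¹ * r, mul_mem (inv_mem ha) hr', rfl⟩, by group⟩
      · right
        rw [Set.disjoint_left]
        rintro x ⟨-, ⟨r, hr', rfl⟩, rfl⟩ ⟨r', hr'', h⟩
        refine ha ?_
        have h' : a * r * l * (a * r)⁻¹ = r' * l * r'⁻¹ := by rw [h]; group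
        have h2 : (r'⁻¹ * (a * r)) * l * (r'⁻¹ * (a * r))⁻¹ = l := by
          calc _ = r'⁻¹ * (a * r * l * (a * r)⁻¹) * r' := by group
            _ = l := by rw [h']; group
        have h3 := mul_mem (mul_mem hr'' (hcl _ h2)) (inv_mem hr')
        simpa using h3
    have hBeq : B = D := by
      refine (hprim.2.2 B hBD hblock).resolve_left fun hs => ?_
      have h1 : l ∈ B := ⟨1, one_mem _, by simp⟩
      have h2 : k * l * k⁻¹ ∈ B := ⟨k, hFR 10 (by norm_num), rfl⟩
      exact hkl (mul_inv_eq_iff_eq_mul.1 (hs h2 h1))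
    rw [eq_top_iff]
    intro a _
    obtain ⟨r, hr', h⟩ : a * l * a⁻¹ ∈ B := hBeq ▸ hD.2.1 a l hC.hl
    have h2 : (r⁻¹ * a) * l * (r⁻¹ * a)⁻¹ = l := by
      calc _ = r⁻¹ * (a * l * a⁻¹) * r := by group
        _ = l := by rw [← h]; group
    have := mul_mem hr' (hcl _ h2)
    simpa using this
  -- injective
  have hinj : Function.Injective Φ := by
    rw [← MonoidHom.ker_eq_bot_iff]
    by_contra hne
    have h2 : Φ.ker.index ≤ 2 := Fi24.index_le_two Φ.normal_ker hne
    rw [Subgroup.index_ker, show Φ.range = ⊤ from hR,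
      Nat.card_congr Subgroup.topEquiv.toEquiv] at h2
    have h3 : ({1, l, k} : Set G).ncard = 3 := Set.ncard_eq_three.2 ⟨1, l, k,
      (ne_one hD.1 hC.hl).symm, (ne_one hD.1 hk).symm, fun e => hkl (e ▸ Commute.refl l), rfl⟩
    have h4 := Set.ncard_le_ncard (Set.subset_univ ({1, l, k} : Set G)) (Set.toFinite _)
    rw [h3, Set.ncard_univ] at h4
    omega
  exact ⟨MulEquiv.ofBijective Φ ⟨hinj, MonoidHom.range_eq_top.1 hR⟩, fun x => by
    show Φ (PresentedGroup.of x) ∈ D
    rw [hΦ]; exact hFD _⟩

end Cfsg.Agent.ThreeTrans.Y542
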