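/-!
# The words used for the relation of length seventeen
-/

namespace Cfsg.Agent.ThreeTrans.Y542

/-- A member of a second class of common partners. -/
def tW : List Nat := [1, 2, 3, 8, 0, 1, 2, 3, 4, 5, 6, 7, 3, 8, 9, 2, 3, 8, 1, 2, 3, 4, 5, 6, 2, 3, 8, 1, 2, 3, 4, 5, 2, 3, 8, 1, 2, 3, 4, 9, 8, 3, 2, 1, 0, 1, 2, 3, 8, 9, 4, 3, 2, 1, 8, 3, 2, 5, 4, 3, 2, 1, 8, 3, 2, 6, 5, 4, 3, 2, 1, 8, 3, 2, 9, 8, 3, 7, 6, 5, 4, 3, 2, 1, 0, 8, 3, 2, 1]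

/-- A member commuting with it. -/
def uW : List Nat := [5, 1, 2, 3, 4, 8, 9, 3, 8, 0, 1, 2, 3, 4, 5, 6, 7, 8, 9, 3, 8, 2, 3, 4, 5, 6, 3, 8, 0, 1, 2, 3, 4, 5, 2, 3, 8, 1, 2, 3, 4, 9, 8, 3, 2, 1, 0, 1, 2, 3, 8, 9, 4, 3, 2, 1, 8, 3, 2, 5, 4, 3, 2, 1, 0, 8, 3, 6, 5, 4, 3, 2, 8, 3, 9, 8, 7, 6, 5, 4, 3, 2, 1, 0, 8, 3, 9, 8, 4, 3, 2, 1, 5]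

/-- Their product, in the generators commuting with `k`. -/
def rW : List Nat := [3, 4, 3, 5, 7, 8, 3, 6, 2, 9, 3, 4, 3, 5, 7, 8, 3, 6, 2, 9, 3, 4, 3, 5, 7, 8, 3, 6, 2, 9, 3, 4, 3, 5, 7, 8, 3, 6, 2, 9, 3, 4, 3, 5, 7, 8, 3, 6, 2, 9, 3, 4, 3, 5, 7, 8, 3, 6, 2, 9]

/-- The member fixed by the product. -/
def mW : List Nat := [0, 1, 2, 3, 4, 5, 6, 7, 4, 8, 9, 2, 3, 8, 1, 2, 3, 4, 5, 6, 2, 3, 8, 1, 2, 3, 4, 5, 2, 3, 8, 1, 2, 3, 4, 9, 8, 3, 2, 1, 0, 1, 2, 3, 8, 9, 4, 3, 2, 1, 8, 3, 2, 5, 4, 3, 2, 1, 8, 3, 2, 6, 5, 4, 3, 2, 1, 8, 3, 2, 9, 8, 4, 7, 6, 5, 4, 3, 2, 1, 0]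

/-- Conjugator to it. -/
def mC : List Nat := [1, 2, 3, 4, 5, 8]

/-- The image of `e` under the symmetry. -/
def bW : List Nat := [4, 3, 8, 2, 3, 4, 9, 8, 3, 2, 0, 1, 0, 1, 0, 2, 3, 8, 9, 4, 3, 2, 8, 3, 4]

/-- The nine members. -/
def nW : Nat → List Nat
  | 0 => [0, 1, 2, 3, 4, 5, 6, 7, 8, 9, 3, 8, 0, 1, 2, 3, 4, 5, 6, 9, 3, 8, 0, 1, 2, 3, 4, 5, 2, 3, 8, 1, 2, 3, 4, 9, 8, 3, 2, 1, 0, 1, 2, 3, 8, 9, 4, 3, 2, 1, 8, 3, 2, 5, 4, 3, 2, 1, 0, 8, 3, 9, 6, 5, 4, 3, 2, 1, 0, 8, 3, 9, 8, 7, 6, 5, 4, 3, 2, 1, 0]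
  | 1 => [0, 1, 2, 3, 4, 5, 6, 7, 8, 9, 2, 3, 8, 1, 2, 3, 4, 5, 6, 3, 8, 1, 2, 3, 4, 5, 2, 3, 8, 1, 2, 3, 4, 9, 8, 3, 2, 1, 0, 1, 2, 3, 8, 9, 4, 3, 2, 1, 8, 3, 2, 5, 4, 3, 2, 1, 8, 3, 6, 5, 4, 3, 2, 1, 8, 3, 2, 9, 8, 7, 6, 5, 4, 3, 2, 1, 0]
  | 2 => [0, 1, 2, 3, 4, 5, 6, 7, 8, 9, 3, 8, 1, 2, 3, 4, 5, 6, 3, 8, 0, 1, 2, 3, 4, 5, 2, 3, 8, 1, 2, 3, 4, 9, 8, 3, 2, 1, 0, 1, 2, 3, 8, 9, 4, 3, 2, 1, 8, 3, 2, 5, 4, 3, 2, 1, 0, 8, 3, 6, 5, 4, 3, 2, 1, 8, 3, 9, 8, 7, 6, 5, 4, 3, 2, 1, 0]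
  | 3 => [0, 1, 2, 3, 4, 5, 6, 7, 8, 9, 3, 8, 2, 3, 4, 5, 6, 3, 8, 1, 2, 3, 4, 5, 4, 3, 8, 1, 2, 3, 4, 9, 8, 3, 2, 1, 0, 1, 2, 3, 8, 9, 4, 3, 2, 1, 8, 3, 4, 5, 4, 3, 2, 1, 8, 3, 6, 5, 4, 3, 2, 8, 3, 9, 8, 7, 6, 5, 4, 3, 2, 1, 0]
  | 4 => [0, 1, 2, 3, 4, 5, 6, 7, 8, 9, 3, 8, 1, 2, 3, 4, 5, 6, 2, 3, 8, 1, 2, 3, 4, 5, 2, 3, 8, 1, 2, 3, 4, 9, 8, 3, 2, 1, 0, 1, 2, 3, 8, 9, 4, 3, 2, 1, 8, 3, 2, 5, 4, 3, 2, 1, 8, 3, 2, 6, 5, 4, 3, 2, 1, 8, 3, 9, 8, 7, 6, 5, 4, 3, 2, 1, 0]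
  | 5 => [5, 4, 2, 3, 8, 0, 1, 2, 3, 4, 5, 6, 7, 8, 9, 3, 8, 2, 3, 4, 5, 6, 2, 3, 8, 1, 2, 3, 4, 5, 2, 3, 8, 1, 2, 3, 4, 9, 8, 3, 2, 1, 0, 1, 2, 3, 8, 9, 4, 3, 2, 1, 8, 3, 2, 5, 4, 3, 2, 1, 8, 3, 2, 6, 5, 4, 3, 2, 8, 3, 9, 8, 7, 6, 5, 4, 3, 2, 1, 0, 8, 3, 2, 4, 5]
  | 6 => [8, 3, 4, 5, 6, 7, 2, 3, 4, 5, 6, 8, 3, 4, 5, 2, 3, 4, 8, 3, 2, 1, 0, 1, 2, 3, 8, 4, 3, 2, 5, 4, 3, 8, 6, 5, 4, 3, 2, 7, 6, 5, 4, 3, 8]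
  | 7 => [0, 1, 2, 3, 4, 5, 6, 7, 8, 9, 3, 8, 1, 2, 3, 4, 5, 6, 4, 3, 8, 1, 2, 3, 4, 5, 2, 3, 8, 1, 2, 3, 4, 9, 8, 3, 2, 1, 0, 1, 2, 3, 8, 9, 4, 3, 2, 1, 8, 3, 2, 5, 4, 3, 2, 1, 8, 3, 4, 6, 5, 4, 3, 2, 1, 8, 3, 9, 8, 7, 6, 5, 4, 3, 2, 1, 0]
  | 8 => [0, 1, 2, 3, 4, 5, 6, 7, 8, 9, 2, 3, 8, 1, 2, 3, 4, 5, 6, 2, 3, 8, 1, 2, 3, 4, 5, 4, 2, 3, 8, 1, 2, 3, 4, 9, 8, 3, 2, 1, 0, 1, 2, 3, 8, 9, 4, 3, 2, 1, 8, 3, 2, 4, 5, 4, 3, 2, 1, 8, 3, 2, 6, 5, 4, 3, 2, 1, 8, 3, 2, 9, 8, 7, 6, 5, 4, 3, 2, 1, 0]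
  | _ => []

/-- Their conjugators. -/
def nC : Nat → List Nat
  | 0 => [1, 2, 1, 3, 4, 6, 8, 3]
  | 1 => [1, 2, 3, 4, 8, 9]
  | 2 => [1, 2, 3, 4, 6, 8, 3, 4]
  | 3 => [1, 2, 3, 2, 1, 4, 5, 8, 3, 2]
  | 4 => [1, 2, 3, 4, 8, 3]
  | 5 => [1, 4, 3, 2, 6, 8, 3, 4]
  | 6 => [1, 2, 3, 4, 5, 6, 8, 3, 2, 4, 3, 5, 4, 8, 3, 2, 7, 6, 5, 4, 3, 8]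
  | 7 => [1, 2, 1, 3, 4, 6, 5, 8]
  | 8 => [1, 2, 3, 4, 8, 7]
  | _ => []

/-- The product in the nine members. -/
def vW : List Nat := [8, 7, 3, 2, 1, 0, 1, 2, 3, 7, 8, 3, 7, 2, 3, 4, 1, 2, 3, 7, 8, 5, 4, 3, 7, 6, 5, 4, 3, 2, 1, 0, 1, 2, 3, 4, 5, 6, 7, 3, 4, 5, 8, 7, 3, 2, 1, 4, 3, 2, 7, 3, 1, 2, 3, 7, 8, 7, 4, 5, 2, 3, 4, 1, 2, 3, 7, 6, 5, 4, 3, 2, 1, 0, 1, 2, 3, 4, 5, 6, 7, 3, 2, 1, 4, 3, 2, 5, 4, 7, 8, 7, 3, 2, 1, 1, 2, 3, 7, 8, 4, 5, 3, 4, 2, 3, 7, 6, 5, 4, 3, 2, 0, 1, 0, 1, 0, 2, 3, 4, 5, 6, 7, 3, 2, 4, 3, 5, 4, 8, 7, 3, 2, 1, 2, 1, 0, 1, 2, 3, 4, 1, 2, 3, 7, 8, 5, 4, 3, 7, 6, 5, 4, 3, 1, 2, 0, 1, 0, 1, 0, 2, 1, 3, 4, 5, 6, 7, 3, 4, 5, 8, 7, 3,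 2, 1, 4, 3, 8, 7, 1, 2, 3, 4, 0, 1, 2, 3, 7, 8, 5, 2, 3, 4, 1, 2, 3, 7, 6, 5, 4, 3, 2, 1, 0, 1, 2, 3, 4, 5, 6, 7, 3, 2, 1, 4, 3, 2, 5, 8, 7, 3, 2, 1, 0, 4, 3, 2, 1, 7, 8, 4, 2, 3, 1, 2, 0, 1, 0, 1, 0, 2, 1, 3, 2, 4, 5, 2, 3, 4, 1, 2, 3, 7, 8, 3, 4, 1, 2, 3, 7, 6, 5, 4, 3, 2, 1, 0, 1, 2, 3, 4, 5, 6, 7, 3, 2, 1, 4, 3, 8, 7, 3, 2, 1, 4, 3, 2, 5, 5, 4, 3, 2, 1, 0, 1, 2, 3, 4, 5]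

end Cfsg.Agent.ThreeTrans.Y542
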