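import Cfsg.Agent.ThreeTrans.Y542.Config
import Cfsg.Agent.ThreeTrans.Y542.Data

/-!
# The relation of length seventeen

The product of the generators commutes with a member of a second class of common partners of `l` and
`k`; in the layer of that member it is a word whose seventeenth power is trivial.
-/

set_option autoImplicit false
set_option maxRecDepth 100000

open Cfsg

universe u

namespace Cfsg.Agent.ThreeTrans.Y542

open Y332 (ev ev_append ev_cons ev_nil pw ev_pw)

/-- The image of `d c b a k l d e f g j d` without `k, l`. -/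
def qW : List Nat := [0, 1, 2, 3, 8, 9, 0] ++ bW ++ [5, 6, 7, 0]

/-- The word is a conjugate of the first letter of it. -/
def isPal (x : Nat) (w : List Nat) : Bool :=
  decide (w = (w.drop (w.length / 2 + 1)).reverse ++ x :: w.drop (w.length / 2 + 1))

theorem pals : (isPal 0 tW && isPal 0 uW && isPal 0 mW && isPal 0 bW &&
    ((List.range 9).all fun x => isPal 0 (nW x))) = true := by decide +kernel

theorem t_checks : (cmCheck tW uW && neCheck (tW ++ uW.reverse) &&
    eqCheck (tW ++ uW) rW && eqCheck (mC.reverse ++ tW ++ mC) mW && cmCheck mW qW &&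
    lt10 (tW ++ uW) && lt10 (mC.reverse ++ tW ++ mC) &&
    decide ((tW ++ uW).length % 2 = rW.length % 2) &&
    decide ((mC.reverse ++ tW ++ mC).length % 2 = mW.length % 2) &&
    (rW ++ mC ++ mC.reverse).all (fun x => decide (0 < x ∧ x < 10))) = true := by
  decide +kernel

/-- The word of a conjugate of `a` or of the second member. -/
def nU (x : Nat) : List Nat := if x = 6 then [0] else tW

theorem n_checks : ((List.range 9).all fun x =>
    eqCheck ((nC x).reverse ++ nU x ++ nC x) (nW x) && lt10 ((nC x).reverse ++ nU x ++ nC x) &&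
    decide (((nC x).reverse ++ nU x ++ nC x).length % 2 = (nW x).length % 2) &&
    (nC x ++ (nC x).reverse).all (fun y => decide (0 < y ∧ y < 10)) &&
    cmCheck mW (nW x) && neCheck (mW ++ (nW x).reverse)) = true := by
  decide +kernel

theorem nadj_checks : ((List.range 9).all fun x => (List.range 9).all fun y =>
    if Y332.adj x y then ncCheck (nW x) (nW y) else cmCheck (nW x) (nW y)) = true := by
  decide +kernel

theorem v_checks : (eqCheck (vW.flatMap nW) qW && lt10 (vW.flatMap nW) &&
    decide ((vW.flatMap nW).length % 2 = qW.length % 2) && vW.all (fun x => decide (x < 9))) = true := by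
  decide +kernel

theorem l_check : idCheck ((pw Y332.wx 9).flatMap nW) = true ∧
    ((pw Y332.wx 9).flatMap nW).length % 2 = 1 := by
  decide +kernel

theorem final_check :
    idCheck ((List.replicate 17 (vW.map tn ++ 7 :: Fi23Centralizer.zWord)).flatten) = true := by
  decide +kernel

theorem tn_gen23 : ∀ x < 9, Y342.num (CosetCert.Fi23Index31671.dec (tn x)).1 = x := by decide

theorem tn_lt : ∀ x < 9, tn x < 10 := by decide

variable {G : Type u} [Group G] [Finite G] {D : Set G}

theorem ev_flatMap (g : ℕ → G) (f : ℕ → List ℕ) (v : List ℕ) :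
    ev g (v.flatMap f) = ev (fun x => ev g (f x)) v := by
  induction v with
  | nil => simp
  | cons x v ih => rw [List.flatMap_cons, ev_append, ih, ev_cons]

/-- The seventeenth power of the product. -/
theorem rel17 (hD : IsThreeTranspositionGroup D) (hprim : IsPrimitiveUnderConj D)
    (h24 : IsOfTypeM24 G D) {φ : G →* ℤˣ} {l k : G} {g : ℕ → G}
    {θ : ↥(Subgroup.centralizer ({l} : Set G)) →* F23} (hC : IsChart D φ l g θ) (hk : k ∈ D)
    (hkl : ¬ Commute k l) (hkg : ∀ x < 10, (Commute k (g x) ↔ x ≠ 0)) :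
    (ev g qW * k * l) ^ 17 = 1 := by
  have hZ : Subgroup.center G = ⊥ := h24.1
  obtain ⟨X, _, _, E, hB⟩ := exists_base24 hD hprim h24
  have hkev : ∀ u : List ℕ, (∀ x ∈ u, 0 < x ∧ x < 10) → Commute k (ev g u) := by
    intro u
    induction u with
    | nil => exact fun _ => Commute.one_right k
    | cons x u ih =>
      intro hu
      simp only [List.mem_cons, forall_eq_or_imp] at hu
      rw [ev_cons]
      exact ((hkg x hu.1.2).2 (by omega)).mul_right (ih hu.2)
  have hmem : ∀ {x : Nat} {v : List Nat}, isPal x v = true → ev g v ∈ dperp D l := fun {x v} h => by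
    rw [of_decide_eq_true h]
    exact hC.word_mem hD _ _
  have hp := pals
  simp only [Bool.and_eq_true, List.all_eq_true] at hp
  obtain ⟨⟨⟨⟨pt, pu⟩, pm⟩, -⟩, pn⟩ := hp
  have ht := t_checks
  simp only [Bool.and_eq_true, decide_eq_true_eq, List.all_eq_true] at ht
  obtain ⟨⟨⟨⟨⟨⟨⟨⟨⟨ctu, ntu⟩, etu⟩, em⟩, cmq⟩, ltu⟩, ltm⟩, qtu⟩, qm⟩, hR⟩ := ht
  have hcu := ctu
  simp only [cmCheck, Bool.and_eq_true] at hcu
  -- the member `t` of a second class
  have hkt : Commute k (ev g tW) := by
    refine commute_of_fixed_pair hD.1 hk (hmem pt).1 (hmem pu).1 (hC.ev_ne hcu.1.1 hcu.1.2 ntu)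
      (hC.commute_ev ctu) ?_
    rw [← ev_append, hC.ev_eq etu ltu qtu]
    exact hkev _ fun x hx => hR x (by simp [hx])
  set m := ev g mW with hm
  have hkm : Commute k m := by
    rw [hm, ← hC.ev_eq em ltm qm, ev_append, ev_append]
    exact ((hkev _ fun x hx => hR x (by simp [List.mem_reverse.1 hx])).mul_right hkt).mul_right
      (hkev _ fun x hx => hR x (by simp [hx]))
  have hml : m ∈ dperp D l := hmem pm
  have hlm : l ∈ dperp D m := dperp_symm hC.hl hml
  have hkM : k ∈ dperp D m := ⟨hk, fun e => hkl (e ▸ hml.2.2.symm), hkm.symm⟩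
  obtain ⟨χ, ψ, -, hker, hagree, hiso⟩ := (cover24 hD hZ hB hml.1).maps
  -- nine members commuting with `l` and `m`
  set n : ℕ → G := fun x => ev g (nW x) with hn
  have hnm : ∀ x < 9, n x ∈ dperp D m ∧ (Commute k (n x) ↔ x ≠ 6) := by
    intro x hx
    have h := List.all_eq_true.1 n_checks x (List.mem_range.2 hx)
    simp only [Bool.and_eq_true, decide_eq_true_eq, List.all_eq_true] at h
    obtain ⟨⟨⟨⟨⟨he, hlt⟩, hq⟩, hR'⟩, hc⟩, hne⟩ := h
    have hc' := hc
    simp only [cmCheck, Bool.and_eq_true] at hc'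
    refine ⟨⟨(hmem (pn x (List.mem_range.2 hx))).1,
      fun e => hC.ev_ne hc'.1.1 hc'.1.2 hne e.symm, hC.commute_ev hc⟩, ?_⟩
    have hcU : Commute k (ev g (nC x)) := hkev _ fun y hy => hR' y (by simp [hy])
    have hcU' : Commute k (ev g (nC x).reverse) := hkev _ fun y hy => hR' y (by
      simp [List.mem_reverse.1 hy])
    show Commute k (ev g (nW x)) ↔ x ≠ 6
    rw [← hC.ev_eq he hlt hq, ev_append, ev_append]
    by_cases h6 : x = 6
    · refine iff_of_false (fun hc2 => ?_) (fun h' => h' h6)
      have h3 := (hcU'.inv_right.mul_right hc2).mul_right hcU.inv_right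
      simp only [inv_mul_cancel_left, mul_assoc, mul_inv_cancel, mul_one] at h3
      rw [nU, if_pos h6] at h3
      exact (hkg 0 (by norm_num)).1 (by simpa using h3) rfl
    · refine iff_of_true ?_ h6
      rw [nU, if_neg h6]
      exact (hcU'.mul_right hkt).mul_right hcU
  set N : ℕ → X := fun x => ψ (n x) with hN
  have hcfg : Y332.Cfg E N := by
    refine ⟨fun x hx => hiso.bij.mapsTo (hnm x hx).1, fun x hx y hy => ?_⟩
    rw [hN, hiso.comm _ (hnm x hx).1 _ (hnm y hy).1]
    have h := List.all_eq_true.1 (List.all_eq_true.1 nadj_checks x (List.mem_range.2 hx)) y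
      (List.mem_range.2 hy)
    split_ifs at h with hadj
    · exact iff_of_false (hC.not_commute_ev h) (by simp [hadj])
    · exact iff_of_true (hC.commute_ev h) (by simpa using hadj)
  have hNL : ∀ x < 9, N x ∈ dperp E (ψ l) := fun x hx =>
    ⟨hiso.bij.mapsTo (hnm x hx).1,
      fun e => (hmem (pn x (List.mem_range.2 hx))).2.1 (hiso.bij.injOn (hnm x hx).1 hlm e),
      (hiso.comm _ hlm _ (hnm x hx).1).2 (hmem (pn x (List.mem_range.2 hx))).2.2⟩
  obtain ⟨e, he⟩ := Y342.iso_of_cfg hB.group (prim_M23 hB.group hB.m23) hB.m23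
    (hiso.bij.mapsTo hlm) (hiso.bij.mapsTo hkM)
    (fun h => hkl ((hiso.comm _ hlm _ hkM).1 h).symm) hcfg hNL fun x hx => by
      rw [hN, hiso.comm _ (hnm x hx).1 _ hkM, Commute.symm_iff]
      exact (hnm x hx).2
  have hen : ∀ x < 9, e (gw [tn x]) = N x := by
    intro x hx
    have hd : gw [tn x] = PresentedGroup.of (CosetCert.Fi23Index31671.dec (tn x)).1 := by
      interval_cases x <;> rfl
    rw [hd, he, tn_gen23 x hx, if_neg (by omega)]
  have hek : e (gw [7]) = ψ k := by
    rw [show gw [7] = PresentedGroup.of Spor.Fi23.Gen.j from rfl, he]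
    rfl
  -- elements of the centraliser of `m`
  have key : ∀ v : List ℕ, (∀ x ∈ v, x < 9) → ∃ h : ev g (v.flatMap nW) ∈
      Subgroup.centralizer ({m} : Set G), χ ⟨_, h⟩ = e (gw (v.map tn)) := by
    intro v
    induction v with
    | nil => exact fun _ => ⟨one_mem _, by rw [List.map_nil, gw_nil, map_one]; exact map_one χ⟩
    | cons x v ih =>
      intro hv
      simp only [List.mem_cons, forall_eq_or_imp] at hv
      obtain ⟨h, hh⟩ := ih hv.2
      have hx := (hnm x hv.1).1
      refine ⟨by rw [List.flatMap_cons, ev_append]; exact mul_mem (dperp_le hx) h, ?_⟩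
      rw [List.map_cons, gw_cons, map_mul, hen x hv.1, ← hh, hN]
      simp only [hagree ⟨n x, dperp_le hx⟩ hx, ← map_mul]
      congr 1
      ext
      simp [hn]
  have hv := v_checks
  simp only [Bool.and_eq_true, decide_eq_true_eq, List.all_eq_true] at hv
  obtain ⟨⟨⟨ev1, ev2⟩, ev3⟩, ev4⟩ := hv
  obtain ⟨hq, hqχ⟩ := key vW ev4
  obtain ⟨hl', hlχ⟩ := key (pw Y332.wx 9) (by decide)
  have hlev : ev g ((pw Y332.wx 9).flatMap nW) = l := by
    refine hC.ext (hC.ev_mem _) (Subgroup.mem_centralizer_singleton_iff.2 rfl) ?_ ?_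
    · have hlt : lt10 ((pw Y332.wx 9).flatMap nW) = true := by
        have := l_check.1
        simp only [idCheck, Bool.and_eq_true] at this
        exact this.1
      rw [hC.theta_ev (lt10_spec hlt), gw_eq_one l_check.1]
      exact ((hC.ker _).2 (Or.inr rfl)).symm
    · rw [hC.sign_ev, hC.sgn l hC.hl, Int.units_pow_eq_pow_mod_two, l_check.2, pow_one]
  set Q : ↥(Subgroup.centralizer ({m} : Set G)) :=
    ⟨_, hq⟩ * ⟨k, dperp_le hkM⟩ * ⟨_, hl'⟩ with hQ
  have hQv : (Q : G) = ev g qW * k * l := by
    rw [hQ, Subgroup.coe_mul, Subgroup.coe_mul]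
    simp only [hlev, hC.ev_eq ev1 ev2 ev3]
  have hzw : (pw Y332.wx 9).map tn = Fi23Centralizer.zWord := by decide +kernel
  have hQχ : χ Q = e (gw (vW.map tn ++ 7 :: Fi23Centralizer.zWord)) := by
    rw [hQ, map_mul, map_mul, hqχ, hlχ, ← hagree ⟨k, dperp_le hkM⟩ hkM, ← hek, hzw, ← map_mul,
      ← map_mul, gw_append, gw_cons 7 Fi23Centralizer.zWord, mul_assoc]
  have hQ17 : χ (Q ^ 17) = 1 := by
    rw [map_pow, hQχ, ← map_pow]
    rw [show gw (vW.map tn ++ 7 :: Fi23Centralizer.zWord) ^ 17 =
      gw (List.replicate 17 (vW.map tn ++ 7 :: Fi23Centralizer.zWord)).flatten from ?_,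
      gw_eq_one final_check, map_one]
    generalize vW.map tn ++ 7 :: Fi23Centralizer.zWord = v
    generalize 17 = i
    induction i with
    | zero => simp [gw_nil]
    | succ i ih => rw [pow_succ', ih, List.replicate_succ, List.flatten_cons, gw_append]
  rw [← hQv, ← SubmonoidClass.coe_pow]
  refine ((hker _).1 hQ17).resolve_right fun h => ?_
  have h1 := congrArg φ h
  rw [SubmonoidClass.coe_pow, hQv, map_pow, map_mul, map_mul, hC.sign_ev, hC.sgn k hk,
    hC.sgn l hC.hl, hC.sgn m hml.1, Int.units_pow_eq_pow_mod_two] at h1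
  revert h1
  decide +kernel

end Cfsg.Agent.ThreeTrans.Y542
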