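import Cfsg.Agent.ThreeTrans.Y542.Pts
import Cfsg.Agent.ThreeTrans.Y342.Iso
import Cfsg.Agent.ThreeTrans.SignM24

/-!
# The layer of a member in type M(24) as the presented Fi₂₃

A chart at a member `l` consists of ten members commuting with it and a homomorphism of its
centraliser onto the presented group, with kernel `{1, l}`, sending them to the generators.
-/

set_option autoImplicit false

open Cfsg

universe u

namespace Cfsg.Agent.ThreeTrans.Y542

open Y332 (ev ev_append ev_cons ev_nil)

variable {G : Type u} [Group G] {D : Set G}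

/-- A member fixing the product of two commuting members commutes with both. -/
theorem commute_of_fixed_pair (hD : IsThreeTranspositionSet D) {x t v : G} (hx : x ∈ D) (ht : t ∈ D)
    (hv : v ∈ D) (hne : t ≠ v) (htv : Commute t v) (hfix : Commute x (t * v)) : Commute x t := by
  by_contra hnt
  have hnv : ¬ Commute x v := fun h => hnt (by
    have h1 := hfix.mul_right h.inv_right
    rwa [mul_inv_cancel_right] at h1)
  refine hne ?_
  have hxx := mul_self hD hx
  have hvv := mul_self hD hv
  have htt := mul_self hD ht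
  have b1 := braid hD hx ht hnt
  have b2 := braid hD hx hv hnv
  have h0 : x * t * v * x = t * v := by
    have h := congrArg (· * x) hfix.eq
    simpa [mul_assoc, hxx] using h
  have h1 : (x * t * x) * (x * v * x) = t * v := by
    rw [← h0]
    simp only [mul_assoc]
    rw [← mul_assoc x x, hxx, one_mul]
  rw [b1, b2] at h1
  simp only [mul_assoc] at h1
  have h2 := mul_left_cancel h1
  have h3 : x * t * v * x = 1 := by
    have h := congrArg (· * v) h2
    simpa [mul_assoc, hvv] using h
  exact (mul_eq_one_iff_eq_inv.1 (h0.symm.trans h3)).trans (inv_eq hD hv)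

/-- A chart at the member `l`. -/
structure IsChart (D : Set G) (φ : G →* ℤˣ) (l : G) (g : ℕ → G)
    (θ : ↥(Subgroup.centralizer ({l} : Set G)) →* F23) : Prop where
  hl : l ∈ D
  sgn : ∀ d ∈ D, φ d = -1
  mem : ∀ x, g x ∈ dperp D l
  img : ∀ x < 10, ∀ h, θ ⟨g x, h⟩ = gw [x]
  ker : ∀ y : ↥(Subgroup.centralizer ({l} : Set G)), θ y = 1 ↔ ((y : G) = 1 ∨ (y : G) = l)
  conj : ∀ y ∈ dperp D l, ∀ h, IsConj (gw [0]) (θ ⟨y, h⟩)

theorem dperp_le {l y : G} (hy : y ∈ dperp D l) : y ∈ Subgroup.centralizer ({l} : Set G) :=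
  Subgroup.mem_centralizer_singleton_iff.2 hy.2.2.symm.eq

variable {φ : G →* ℤˣ} {l : G} {g : ℕ → G} {θ : ↥(Subgroup.centralizer ({l} : Set G)) →* F23}
  (hC : IsChart D φ l g θ)
include hC

theorem IsChart.ev_mem (w : List Nat) : ev g w ∈ Subgroup.centralizer ({l} : Set G) := by
  induction w with
  | nil => exact one_mem _
  | cons x w ih => rw [ev_cons]; exact mul_mem (dperp_le (hC.mem x)) ih

theorem IsChart.sign_ev (w : List Nat) : φ (ev g w) = (-1) ^ w.length := by
  induction w with
  | nil => simp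
  | cons x w ih => rw [ev_cons, map_mul, ih, hC.sgn _ (hC.mem x).1, List.length_cons, pow_succ']

theorem IsChart.theta_ev {w : List Nat} (hw : ∀ x ∈ w, x < 10) :
    ∀ h, θ ⟨ev g w, h⟩ = gw w := by
  induction w with
  | nil => intro h; rw [gw_nil]; exact map_one θ
  | cons x w ih =>
    intro h
    simp only [List.mem_cons, forall_eq_or_imp] at hw
    have e : (⟨ev g (x :: w), h⟩ : ↥(Subgroup.centralizer ({l} : Set G))) =
        ⟨g x, dperp_le (hC.mem x)⟩ * ⟨ev g w, hC.ev_mem w⟩ := Subtype.ext (ev_cons g x w)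
    rw [e, map_mul, ih hw.2, hC.img x hw.1, gw_cons x w]

/-- Elements with one image and one sign are equal. -/
theorem IsChart.ext {y z : G} (hy : y ∈ Subgroup.centralizer ({l} : Set G))
    (hz : z ∈ Subgroup.centralizer ({l} : Set G)) (h : θ ⟨y, hy⟩ = θ ⟨z, hz⟩) (hs : φ y = φ z) :
    y = z := by
  have h1 : θ (⟨y, hy⟩ * ⟨z, hz⟩⁻¹) = 1 := by rw [map_mul, map_inv, h, mul_inv_cancel]
  rcases (hC.ker _).1 h1 with e | e <;> simp only [Subgroup.coe_mul, Subgroup.coe_inv] at e
  · exact mul_inv_eq_one.1 e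
  · have h2 := congrArg φ e
    rw [map_mul, map_inv, hs, mul_inv_cancel, hC.sgn l hC.hl] at h2
    exact absurd h2 (by decide)

/-- An element of the centraliser with the image of a word of the same sign is the word. -/
theorem IsChart.eq_ev {y : G} (hy : y ∈ Subgroup.centralizer ({l} : Set G)) {w : List Nat}
    (hw : ∀ x ∈ w, x < 10) (h : θ ⟨y, hy⟩ = gw w) (hs : φ y = (-1) ^ w.length) : y = ev g w :=
  hC.ext hy (hC.ev_mem w) (h.trans (hC.theta_ev hw _).symm) (hs.trans (hC.sign_ev w).symm)

/-- Certified words of one parity have one value. -/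
theorem IsChart.ev_eq {u v : List Nat} (h : eqCheck u v = true) (hu : lt10 u = true)
    (hp : u.length % 2 = v.length % 2) : ev g u = ev g v := by
  have hv : lt10 v = true := by simp only [eqCheck, Bool.and_eq_true] at h; exact h.1
  refine hC.eq_ev (hC.ev_mem u) (lt10_spec hv) (((hC.theta_ev (lt10_spec hu)) _).trans (eq_of h)) ?_
  rw [hC.sign_ev, Int.units_pow_eq_pow_mod_two, hp, ← Int.units_pow_eq_pow_mod_two]

theorem IsChart.commute_ev {u v : List Nat} (h : cmCheck u v = true) :
    Commute (ev g u) (ev g v) := by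
  have h' := h
  simp only [cmCheck, Bool.and_eq_true] at h'
  have hlt : ∀ x ∈ u ++ v, x < 10 := fun x hx => (List.mem_append.1 hx).elim
    (lt10_spec h'.1.1 x) (lt10_spec h'.1.2 x)
  show ev g u * ev g v = ev g v * ev g u
  rw [← ev_append, ← ev_append]
  refine hC.ext (hC.ev_mem _) (hC.ev_mem _) ?_ ?_
  · rw [hC.theta_ev hlt, hC.theta_ev (fun x hx => hlt x (List.mem_append.2 (List.mem_append.1 hx).symm)),
      gw_append, gw_append]
    exact (commute_of h).eq
  · rw [hC.sign_ev, hC.sign_ev, List.length_append, List.length_append, add_comm]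

theorem IsChart.theta_commute {y : G} (hy : y ∈ Subgroup.centralizer ({l} : Set G)) {z : G}
    (hz : z ∈ Subgroup.centralizer ({l} : Set G)) (h : Commute y z) :
    Commute (θ ⟨y, hy⟩) (θ ⟨z, hz⟩) :=
  Commute.map (show Commute (⟨y, hy⟩ : ↥(Subgroup.centralizer ({l} : Set G))) ⟨z, hz⟩ from
    Subtype.ext h.eq) θ

theorem IsChart.not_commute_ev {u v : List Nat} (h : ncCheck u v = true) :
    ¬ Commute (ev g u) (ev g v) := fun hc => not_commute_of h (by
  have h' := h
  simp only [ncCheck, Bool.and_eq_true] at h'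
  have := hC.theta_commute (hC.ev_mem u) (hC.ev_mem v) hc
  rwa [hC.theta_ev (lt10_spec h'.1.1), hC.theta_ev (lt10_spec h'.1.2)] at this)

theorem IsChart.ev_ne {u v : List Nat} (hu : lt10 u = true) (hv : lt10 v = true)
    (h : neCheck (u ++ v.reverse) = true) : ev g u ≠ ev g v := fun e => gw_ne_one h (by
  rw [gw_append, gw_reverse (lt10_spec hv), mul_inv_eq_one,
    ← hC.theta_ev (lt10_spec hu) (hC.ev_mem u), ← hC.theta_ev (lt10_spec hv) (hC.ev_mem v)]
  exact congrArg θ (Subtype.ext e))

theorem IsChart.ev_reverse (hT : IsThreeTranspositionSet D) (w : List Nat) :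
    ev g w.reverse = (ev g w)⁻¹ := by
  induction w with
  | nil => simp
  | cons x w ih =>
    rw [List.reverse_cons, ev_append, ih, ev_cons, ev_cons, ev_nil, mul_one, mul_inv_rev,
      inv_eq hT (hC.mem x).1]

/-- A conjugate of a generator is in the layer. -/
theorem IsChart.conj_mem (hD : IsThreeTranspositionGroup D) (u : List Nat) {y : G}
    (hy : y ∈ dperp D l) : ev g u.reverse * y * ev g u ∈ dperp D l := by
  induction u generalizing y with
  | nil => simpa using hy
  | cons x u ih =>
    have e : ev g (x :: u).reverse * y * ev g (x :: u) =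
        ev g u.reverse * (g x * y * (g x)⁻¹) * ev g u := by
      rw [inv_eq hD.1 (hC.mem x).1, List.reverse_cons, ev_append, ev_cons, ev_cons, ev_nil, mul_one]
      simp only [mul_assoc]
    rw [e]
    refine ih ⟨hD.2.1 _ _ hy.1, fun h => hy.2.1 ?_, ?_⟩
    · have hc : Commute (g x) l := (hC.mem x).2.2.symm
      calc y = (g x)⁻¹ * (g x * y * (g x)⁻¹) * g x := by group
        _ = l := by rw [h, mul_assoc, ← hc.eq, inv_mul_cancel_left]
    · exact ((hC.mem x).2.2.mul_right hy.2.2).mul_right (hC.mem x).2.2.inv_right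

theorem IsChart.word_mem (hD : IsThreeTranspositionGroup D) (u : List Nat) (x : ℕ) :
    ev g (u.reverse ++ x :: u) ∈ dperp D l := by
  rw [ev_append, ev_cons, ← mul_assoc]
  exact hC.conj_mem hD u (hC.mem x)

omit hC

/-- Every member has a chart. -/
theorem exists_chart [Finite G] (hD : IsThreeTranspositionGroup D) (hZ : Subgroup.center G = ⊥)
    {X : Type u} [Group X] [Finite X] {E : Set X} (hB : M24Base D E) {φ : G →* ℤˣ}
    (hφ : ∀ d ∈ D, φ d = -1) {l : G} (hl : l ∈ D) :
    ∃ (g : ℕ → G) (θ : ↥(Subgroup.centralizer ({l} : Set G)) →* F23), IsChart D φ l g θ := by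
  obtain ⟨χ, ψ, -, hker, hagree, hiso⟩ := (cover24 hD hZ hB hl).maps
  obtain ⟨e, he⟩ := Y342.exists_iso hB.group (prim_M23 hB.group hB.m23) hB.m23
  choose y hy hye using fun x : ℕ => hiso.bij.surjOn (he (CosetCert.Fi23Index31671.dec x).1)
  refine ⟨y, e.symm.toMonoidHom.comp χ, hl, hφ, hy, fun x hx h => ?_, fun z => ?_, fun z hz h => ?_⟩
  · show e.symm (χ ⟨y x, h⟩) = gw [x]
    rw [← hagree ⟨y x, h⟩ (hy x), hye x, MulEquiv.symm_apply_apply]
    have hd : CosetCert.Fi23Index31671.dec x = ((CosetCert.Fi23Index31671.dec x).1, true) := by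
      unfold CosetCert.Fi23Index31671.dec; split <;> rfl
    rw [gw, List.map_singleton, hd]
    rfl
  · exact (MulEquiv.map_eq_one_iff e.symm).trans (hker z)
  · obtain ⟨-, ⟨d, -, hd⟩, -⟩ := class_of_primitive hB.group (prim_M23 hB.group hB.m23)
    have h1 : ψ z ∈ E := hiso.bij.mapsTo hz
    have h0 : e (gw [0]) ∈ E := he _
    rw [hd] at h1 h0
    have h2 : IsConj (e (gw [0])) (χ ⟨z, h⟩) := by
      rw [← hagree ⟨z, h⟩ hz]; exact (IsConj.symm h0).trans h1
    simpa using e.symm.toMonoidHom.map_isConj h2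

end Cfsg.Agent.ThreeTrans.Y542
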