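import Cfsg.Agent.ThreeTrans.Y542.Pts
import Cfsg.Agent.ThreeTrans.Y332.Iso
import Cfsg.Agent.ThreeTrans.Y342.Iso
import Cfsg.Agent.Fi22Out.Main

/-!
# Configurations determine isomorphisms, and extend when a central element is trivial
-/

set_option autoImplicit false
set_option maxRecDepth 100000

open Cfsg

universe u

namespace Cfsg.Agent.ThreeTrans.Y332

open Cfsg.Spor Cfsg.Spor.Fi22

/-- Nine members with the pattern give the isomorphism. -/
theorem iso_of_cfg {G : Type u} [Group G] [Finite G] {D : Set G} (hD : IsThreeTranspositionGroup D)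
    (hcls : IsThreeTranspositionClass D) (h22 : IsOfTypeM22 G D) {n : ℕ → G} (hn : Cfg D n) :
    ∃ e : Spor.Fi22 ≃* G, ∀ x : Gen, e (PresentedGroup.of x) = n (num x) := by
  have hr := hn.rels hD
  set f : Gen → G := fun x => n (num x) with hf
  have hrel : ∀ r ∈ coxRelators edges ∪ {r | r ∈ extra}, FreeGroup.lift f r = 1 := by
    rintro r (⟨x, -, y, -, rfl⟩ | hr')
    · rw [map_pow, map_mul, FreeGroup.lift_apply_of, FreeGroup.lift_apply_of, label_eq]
      split_ifs with hxy hadj
      · subst hxy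
        rw [pow_one]
        exact hr.sq _ (num_lt x)
      · refine cube_of_not_commute hD.1 (hn.mem _ (num_lt x)) (hn.mem _ (num_lt y)) fun h => ?_
        rw [(hn.comm _ (num_lt x) _ (num_lt y)).1 h] at hadj
        simp at hadj
      · have h := hr.comm _ (num_lt x) _ (num_lt y) (by simpa using hadj)
        show (n (num x) * n (num y)) ^ 2 = 1
        rw [h.mul_pow, pow_two, pow_two, hr.sq _ (num_lt x), one_mul, hr.sq _ (num_lt y)]
    · simp only [extra, List.mem_cons, List.not_mem_nil, or_false, Set.mem_ofPred_eq] at hr'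
      rcases hr' with rfl | rfl | rfl
      · simp only [map_pow, map_mul, FreeGroup.lift_apply_of, hf, num]
        have := pow_spider hD h22 hn
        simpa [ev, ws, mul_assoc] using this
      · simp only [map_pow, map_mul, FreeGroup.lift_apply_of, hf, num]
        have h := (pow_x' hD h22 hn).1
        rw [ev_pw] at h
        have hinv : ev n [7, 0, 1, 2, 3, 4, 5] ^ 9 = 1 := by
          rw [show [7, 0, 1, 2, 3, 4, 5] = wx'.reverse from rfl, ev_reverse hr (by decide), inv_pow, h,
            inv_one]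
        have e : n 0 * n 1 * n 2 * n 3 * n 4 * n 5 * n 7 =
            n 7 * ev n [7, 0, 1, 2, 3, 4, 5] * (n 7)⁻¹ := by
          rw [inv_eq_of_mul_eq_one_right (hr.sq 7 (by norm_num))]
          simp only [ev_cons, ev_nil, mul_one, ← mul_assoc]
          rw [hr.sq 7 (by norm_num), one_mul]
        rw [e, conj_pow, hinv, mul_one, mul_inv_cancel]
      · simp only [map_pow, map_mul, FreeGroup.lift_apply_of, hf, num]
        have := (pow_x hD h22 hn).1
        rw [ev_pw] at this
        simpa [ev, wx, mul_assoc] using this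
  set φ := PresentedGroup.toGroup hrel
  have hφ : ∀ x, φ (PresentedGroup.of x) = n (num x) := fun x => PresentedGroup.toGroup.of hrel
  obtain ⟨hsimp, hcard⟩ := CosetCert.Fi22Order.order_and_simple
  have : IsSimpleGroup Spor.Fi22 := hsimp
  have hinj : Function.Injective φ := by
    rw [← MonoidHom.ker_eq_bot_iff]
    refine (φ.normal_ker.eq_bot_or_eq_top).resolve_right fun h => ?_
    refine ne_one hD.1 (hn.mem 0 (by norm_num)) ?_
    have h' : PresentedGroup.of Gen.a ∈ φ.ker := h ▸ Subgroup.mem_top _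
    rwa [MonoidHom.mem_ker, hφ] at h'
  have hG : Nat.card G = Nat.card Spor.Fi22 := by
    rw [hcard, (primeData hD hcls h22).card]
  have hbij : Function.Bijective φ :=
    (Nat.bijective_iff_injective_and_card φ).2 ⟨hinj, hG.symm⟩
  exact ⟨MulEquiv.ofBijective φ hbij, fun x => by rw [MulEquiv.ofBijective_apply, hφ]⟩

end Cfsg.Agent.ThreeTrans.Y332

namespace Cfsg.Agent.ThreeTrans.Y342

open Cfsg.Spor Cfsg.Spor.Fi23 Y332

variable {G : Type u} [Group G] [Finite G] {D : Set G}

/-- Nine members of a layer and one more give the isomorphism. -/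
theorem iso_of_cfg (hD : IsThreeTranspositionGroup D) (hprim : IsPrimitiveUnderConj D)
    (h23 : IsOfTypeM23 G D) {n : ℕ → G} {w j : G} (hw : w ∈ D) (hj : j ∈ D) (hwj : ¬ Commute w j)
    (hn : Cfg D n) (hnw : ∀ x < 9, n x ∈ dperp D w) (hnj : ∀ x < 9, (Commute (n x) j ↔ x ≠ 6)) :
    ∃ e : Spor.Fi23 ≃* G, ∀ x : Gen, e (PresentedGroup.of x) = if num x = 9 then j else n (num x) := by
  have hcls := class_of_primitive hD hprim
  have hM := m23Data hD hprim h23
  obtain ⟨X, _, _, E, hE, hclsE, h22, hcov⟩ := exists_cover23 hD hprim h23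
  have hr := hn.rels hD
  obtain ⟨χ, ψ, -, hker, hψχ, hψ⟩ := (hcov w hw).maps
  set m : ℕ → X := ψ ∘ n with hm
  have hmc : Cfg E m := ⟨fun x hx => hψ.bij.mapsTo (hnw x hx), fun x hx y hy =>
    (hψ.comm _ (hnw x hx) _ (hnw y hy)).trans (hn.comm x hx y hy)⟩
  have hev : ∀ v : List ℕ, (∀ x ∈ v, x < 9) → ∃ h : ev n v ∈ Subgroup.centralizer ({w} : Set G),
      χ ⟨ev n v, h⟩ = ev m v := by
    intro v
    induction v with
    | nil => exact fun _ => ⟨one_mem _, map_one χ⟩
    | cons x v ih =>
      intro hv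
      simp only [List.mem_cons, forall_eq_or_imp] at hv
      obtain ⟨h, he⟩ := ih hv.2
      have hx : n x ∈ Subgroup.centralizer ({w} : Set G) :=
        Subgroup.mem_centralizer_singleton_iff.2 (hnw x hv.1).2.2.symm.eq
      refine ⟨by rw [ev_cons]; exact mul_mem hx h, ?_⟩
      show χ (⟨n x, hx⟩ * ⟨ev n v, h⟩) = m x * ev m v
      rw [map_mul, he, show m x = χ ⟨n x, hx⟩ from hψχ ⟨n x, hx⟩]
  have hone : ∀ v : List ℕ, (∀ x ∈ v, x < 9) → ev m v = 1 → ev n v = 1 ∨ ev n v = w := by
    intro v hv h1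
    obtain ⟨h, he⟩ := hev v hv
    exact (hker ⟨_, h⟩).1 (he.trans h1)
  -- the relation on `a b c d e f h`
  have hx' : ev n wx' ^ 9 = 1 := by
    rw [← ev_pw]
    refine (hone _ (by decide) (pow_x' hE h22 hmc).1).resolve_right fun h => hwj ?_
    rw [← h]
    have hcm : ∀ v : List ℕ, (∀ x ∈ v, x < 9 ∧ x ≠ 6) → Commute (ev n v) j := by
      intro v
      induction v with
      | nil => exact fun _ => Commute.one_left j
      | cons x v ih =>
        intro hv
        simp only [List.mem_cons, forall_eq_or_imp] at hv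
        rw [ev_cons]
        exact ((hnj x hv.1.1).2 hv.1.2).mul_left (ih hv.2)
    rw [ev_pw]
    exact (hcm wx' wx'_ne).pow_left 9
  -- the spider relation
  have hθD : ev n wθ ∈ D := by
    have hU : ∀ x ∈ [7, 3, 4, 2, 3, 7, 5, 4, 3, 2], x < 9 := by decide
    rw [wθ_eq]
    generalize [7, 3, 4, 2, 3, 7, 5, 4, 3, 2] = U at hU ⊢
    rw [ev_append, ev_cons, ev_reverse hr hU, ← mul_assoc]
    exact hD.2.1 _ _ (hn.mem 1 (by norm_num))
  have hθ : ¬ Commute (n 8) (ev n wθ) := by
    intro h
    obtain ⟨h1, e1⟩ := hev wθ (by decide)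
    refine (moved_theta hE h22 hmc).2 ?_
    rw [← e1, show m 8 = χ ⟨n 8, Subgroup.mem_centralizer_singleton_iff.2 (hnw 8 (by norm_num)).2.2.symm.eq⟩
      from hψχ ⟨n 8, _⟩]
    exact Commute.map (Subtype.ext h.eq) χ
  have ht0 : ev n t0 ^ 3 = 1 := by
    rw [t0, ev_cons]
    exact cube_of_not_commute hD.1 (hn.mem 8 (by norm_num)) hθD hθ
  have hspider : ev n ws ^ 10 = 1 := by
    rw [← ev_pw]
    refine (hone _ ws_lt (by rw [ev_pw]; exact pow_spider hE h22 hmc)).resolve_right fun h => ?_
    have h3 := cube_spider hr (cube_t_of hr ht0)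
    rw [h, mul_self hD.1 hw, one_mul] at h3
    exact ne_one hD.1 hw h3
  set f : Gen → G := fun x => if num x = 9 then j else n (num x) with hf
  have hfD : ∀ x, f x ∈ D := fun x => by
    rcases num_cases x with h | h
    · simp only [hf, h, if_true]; exact hj
    · simp only [hf, if_neg (by omega : num x ≠ 9)]; exact hn.mem _ h
  have hcomm : ∀ x y, Commute (f x) (f y) ↔ (x = y ∨ adj10 (num x) (num y) = false) := by
    intro x y
    have hinj : num x = num y → x = y := by cases x <;> cases y <;> simp [num]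
    rcases num_cases x with hx | hx <;> rcases num_cases y with hy | hy
    · simp [hf, hx, hy, hinj (hx.trans hy.symm), Commute.refl]
    · simp only [hf, hx, if_true, if_neg (by omega : num y ≠ 9), adj10]
      rw [Commute.symm_iff, hnj _ hy]
      have hne : x ≠ y := fun e => by subst e; omega
      simp [hne]
    · simp only [hf, hy, if_true, if_neg (by omega : num x ≠ 9), adj10]
      rw [hnj _ hx]
      have hne : x ≠ y := fun e => by subst e; omega
      simp [hne]
    · simp only [hf, if_neg (by omega : num x ≠ 9), if_neg (by omega : num y ≠ 9), adj10]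
      rw [hn.comm _ hx _ hy]
      refine ⟨Or.inr, ?_⟩
      rintro (rfl | h)
      · cases x <;> first | rfl | simp [num] at hx
      · exact h
  have hrel : ∀ r ∈ coxRelators edges ∪ {r | r ∈ extra}, FreeGroup.lift f r = 1 := by
    rintro r (⟨x, -, y, -, rfl⟩ | hr')
    · rw [map_pow, map_mul, FreeGroup.lift_apply_of, FreeGroup.lift_apply_of, label_eq]
      split_ifs with hxy hadj
      · subst hxy
        rw [pow_one]
        exact mul_self hD.1 (hfD x)
      · refine cube_of_not_commute hD.1 (hfD x) (hfD y) fun h => ?_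
        rcases (hcomm x y).1 h with h | h
        · exact hxy h
        · rw [h] at hadj; simp at hadj
      · have h : Commute (f x) (f y) := (hcomm x y).2 (Or.inr (by simpa using hadj))
        rw [h.mul_pow, pow_two, pow_two, mul_self hD.1 (hfD x), one_mul, mul_self hD.1 (hfD y)]
    · simp only [extra, List.mem_cons, List.not_mem_nil, or_false, Set.mem_ofPred_eq] at hr'
      rcases hr' with rfl | rfl
      · simp only [map_pow, map_mul, FreeGroup.lift_apply_of, hf, num]
        simpa [ev, ws, mul_assoc] using hspider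
      · simp only [map_pow, map_mul, FreeGroup.lift_apply_of, hf, num]
        have hinv : ev n [7, 0, 1, 2, 3, 4, 5] ^ 9 = 1 := by
          rw [show [7, 0, 1, 2, 3, 4, 5] = wx'.reverse from rfl, ev_reverse hr (by decide), inv_pow,
            hx', inv_one]
        have e : n 0 * n 1 * n 2 * n 3 * n 4 * n 5 * n 7 =
            n 7 * ev n [7, 0, 1, 2, 3, 4, 5] * (n 7)⁻¹ := by
          rw [inv_eq_of_mul_eq_one_right (hr.sq 7 (by norm_num))]
          simp only [ev_cons, ev_nil, mul_one, ← mul_assoc]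
          rw [hr.sq 7 (by norm_num), one_mul]
        simp only [show (0 : ℕ) ≠ 9 from by decide, show (1 : ℕ) ≠ 9 from by decide,
          show (2 : ℕ) ≠ 9 from by decide, show (3 : ℕ) ≠ 9 from by decide,
          show (4 : ℕ) ≠ 9 from by decide, show (5 : ℕ) ≠ 9 from by decide,
          show (7 : ℕ) ≠ 9 from by decide, if_false]
        rw [e, conj_pow, hinv, mul_one, mul_inv_cancel]
  set φ := PresentedGroup.toGroup hrel
  have hφ : ∀ x, φ (PresentedGroup.of x) = f x := fun x => PresentedGroup.toGroup.of hrel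
  obtain ⟨hsimp, hcard⟩ := CosetCert.Fi23Order.order_and_simple
  have : IsSimpleGroup Spor.Fi23 := hsimp
  have hinj : Function.Injective φ := by
    rw [← MonoidHom.ker_eq_bot_iff]
    refine (φ.normal_ker.eq_bot_or_eq_top).resolve_right fun h => ?_
    refine ne_one hD.1 (hfD Gen.a) ?_
    have h' : PresentedGroup.of Gen.a ∈ φ.ker := h ▸ Subgroup.mem_top _
    rwa [MonoidHom.mem_ker, hφ] at h'
  have hG : Nat.card G = Nat.card Spor.Fi23 := by
    rw [hcard, card_M23 hD hcls hM hE hclsE h22 hcov hw]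
    norm_num
  have hbij : Function.Bijective φ :=
    (Nat.bijective_iff_injective_and_card φ).2 ⟨hinj, hG.symm⟩
  exact ⟨MulEquiv.ofBijective φ hbij, fun x => by rw [MulEquiv.ofBijective_apply, hφ]⟩

end Cfsg.Agent.ThreeTrans.Y342

namespace Cfsg.Agent.ThreeTrans.Y542

open Y332 (ev ev_append ev_cons ev_nil pw)

/-- The number in the table of a number among `a, …, i`. -/
def tn (x : ℕ) : ℕ := if x < 7 then x else x + 1

theorem tn_gen22 : ∀ x < 9, Y332.num (CosetCert.Fi22U62.dec x).1 = x := by decide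

theorem adj_checks : ((List.range 9).all fun x => (List.range 9).all fun y =>
    if Y332.adj x y then ncCheck [tn x] [tn y] else cmCheck [tn x] [tn y]) = true := by
  decide +kernel

theorem z_checks : ((List.range 9).all fun x => cmCheck [tn x] Fi23Centralizer.zWord &&
    neCheck ([tn x] ++ Fi23Centralizer.zWord.reverse) &&
    (if x = 6 then ncCheck [tn x] [7] else cmCheck [tn x] [7])) = true := by
  decide +kernel

theorem zj_check : ncCheck Fi23Centralizer.zWord [7] = true := by decide +kernel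

theorem x'_check : idCheck ((pw Y332.wx' 9).map tn) = true := by decide +kernel

theorem xσ_check : neCheck ((pw Y332.wx' 9).map (tn ∘ Fi22Out.sigma)) = true := by decide +kernel

theorem map_ev {G H : Type*} [Group G] [Group H] (f : G →* H) (n : ℕ → G) (w : List ℕ) :
    f (ev n w) = ev (fun x => f (n x)) w := by
  induction w with
  | nil => simp
  | cons x w ih => simp [ih]

theorem ev_congr {G : Type*} [Group G] {n n' : ℕ → G} {w : List ℕ} (h : ∀ x ∈ w, n x = n' x) :
    ev n w = ev n' w := by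
  induction w with
  | nil => simp
  | cons x w ih =>
    rw [ev_cons, ev_cons, h x (List.mem_cons_self ..), ih fun y hy => h y (List.mem_cons_of_mem _ hy)]

theorem gw_eq_ev (w : List Nat) : gw w = ev (fun x => gw [x]) w := by
  induction w with
  | nil => simp [gw_nil]
  | cons x w ih => rw [ev_cons, gw_cons x w, ih]

theorem gw_map_tn (π : ℕ → ℕ) (w : List ℕ) :
    gw (w.map (tn ∘ π)) = ev (fun x => gw [tn (π x)]) w := by
  induction w with
  | nil => simp [gw_nil]
  | cons x w ih => rw [List.map_cons, ev_cons, gw_cons, ih]; rfl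

variable {G : Type u} [Group G] [Finite G] {D : Set G}

/-- A member of the class of M(23) has a configuration with trivial first central element. -/
theorem exists_ref (hD : IsThreeTranspositionGroup D) (hprim : IsPrimitiveUnderConj D)
    (h23 : IsOfTypeM23 G D) {L : G} (hL : L ∈ D) :
    ∃ (n : ℕ → G) (J : G), J ∈ D ∧ ¬ Commute L J ∧ Y332.Cfg D n ∧ (∀ x < 9, n x ∈ dperp D L) ∧
      (∀ x < 9, (Commute (n x) J ↔ x ≠ 6)) ∧
      ev (fun x => n (Fi22Out.sigma x)) (pw Y332.wx' 9) ≠ 1 := by
  obtain ⟨e, he⟩ := Y342.exists_iso hD hprim h23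
  obtain ⟨-, ⟨d, -, hd⟩, -⟩ := class_of_primitive hD hprim
  have hdec : ∀ x, e (gw [x]) ∈ D := fun x => by
    have hx : CosetCert.Fi23Index31671.dec x = ((CosetCert.Fi23Index31671.dec x).1, true) := by
      unfold CosetCert.Fi23Index31671.dec; split <;> rfl
    rw [gw, List.map_singleton, hx]
    exact he _
  have hzD : e Fi23Transp.z ∈ D := by
    have h0 := hdec 0
    rw [hd] at h0 ⊢
    exact IsConj.trans h0 (e.toMonoidHom.map_isConj isConj_a_z)
  obtain ⟨c, hc⟩ := hprim.1 _ hzD _ hL
  set f : F23 ≃* G := e.trans (MulAut.conj c) with hf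
  have hfg : ∀ u, f u = c * e u * c⁻¹ := fun u => rfl
  have hfD : ∀ x, f (gw [x]) ∈ D := fun x => hD.2.1 c _ (hdec x)
  have hfz : f (gw Fi23Centralizer.zWord) = L := by rw [hfg, ← z_eq_gw, hc]
  have hcomm : ∀ {u v : F23}, Commute u v → Commute (f u) (f v) := fun h => h.map f
  have hncomm : ∀ {u v : F23}, ¬ Commute u v → ¬ Commute (f u) (f v) := fun h h' => h (by
    simpa using h'.map f.symm)
  refine ⟨fun x => f (gw [tn x]), f (gw [7]), hfD 7, ?_, ⟨fun x _ => hfD _, fun x hx y hy => ?_⟩,
    fun x hx => ?_, fun x hx => ?_, ?_⟩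
  · rw [← hfz]
    exact hncomm (not_commute_of zj_check)
  · have h := List.all_eq_true.1 (List.all_eq_true.1 adj_checks x (List.mem_range.2 hx)) y
      (List.mem_range.2 hy)
    split_ifs at h with hxy
    · simp only [hxy, Bool.true_eq_false, iff_false]
      exact hncomm (not_commute_of h)
    · exact iff_of_true (hcomm (commute_of h)) (by simpa using hxy)
  · have h := List.all_eq_true.1 z_checks x (List.mem_range.2 hx)
    simp only [Bool.and_eq_true] at h
    refine ⟨hfD _, fun h' => gw_ne_one h.1.2 ?_, hfz ▸ (hcomm (commute_of h.1.1)).symm⟩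
    rw [gw_append, gw_reverse (by decide), mul_inv_eq_one]
    exact f.injective (h'.trans hfz.symm)
  · have h := List.all_eq_true.1 z_checks x (List.mem_range.2 hx)
    simp only [Bool.and_eq_true] at h
    by_cases h6 : x = 6
    · rw [if_pos h6] at h
      exact iff_of_false (hncomm (not_commute_of h.2)) (fun h' => h' h6)
    · rw [if_neg h6] at h
      exact iff_of_true (hcomm (commute_of h.2)) h6
  · intro h
    refine gw_ne_one xσ_check ?_
    rw [gw_map_tn]
    refine f.injective (Eq.trans ?_ (map_one f).symm)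
    exact (map_ev f.toMonoidHom _ _).trans h

/-- Nine members of a layer with trivial first central element extend. -/
theorem extend (hD : IsThreeTranspositionGroup D) (hprim : IsPrimitiveUnderConj D)
    (h23 : IsOfTypeM23 G D) {L : G} (hL : L ∈ D) {y : ℕ → G} (hy : Y332.Cfg D y)
    (hyL : ∀ x < 9, y x ∈ dperp D L) (hx' : ev y (pw Y332.wx' 9) = 1) :
    ∃ J ∈ D, ¬ Commute L J ∧ ∀ x < 9, (Commute (y x) J ↔ x ≠ 6) := by
  classical
  obtain ⟨n, J, hJ, hLJ, hn, hnL, hnJ, hσ1⟩ := exists_ref hD hprim h23 hL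
  obtain ⟨X, _, _, E, hE, hclsE, h22, hcov⟩ := exists_cover23 hD hprim h23
  obtain ⟨χ, ψ, hχ, -, hψχ, hψ⟩ := (hcov L hL).maps
  have hcfg : ∀ {m : ℕ → G}, Y332.Cfg D m → (∀ x < 9, m x ∈ dperp D L) →
      Y332.Cfg E (fun x => ψ (m x)) := fun {m} hm hmL => ⟨fun x hx => hψ.bij.mapsTo (hmL x hx),
    fun x hx x' hx' => (hψ.comm _ (hmL x hx) _ (hmL x' hx')).trans (hm.comm x hx x' hx')⟩
  obtain ⟨f, hf⟩ := Y332.iso_of_cfg hE hclsE h22 (hcfg hy hyL)
  obtain ⟨f0, hf0⟩ := Y332.iso_of_cfg hE hclsE h22 (hcfg hn hnL)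
  have hgen : ∀ x < 9, (Fi22Out.gw [x] : Spor.Fi22) =
      PresentedGroup.of (CosetCert.Fi22U62.dec x).1 := by
    intro x hx
    interval_cases x <;> rfl
  have hf' : ∀ x < 9, f (Fi22Out.gw [x]) = ψ (y x) := fun x hx => by
    rw [hgen x hx, hf, tn_gen22 x hx]
  have hf0' : ∀ x < 9, f0 (Fi22Out.gw [x]) = ψ (n x) := fun x hx => by
    rw [hgen x hx, hf0, tn_gen22 x hx]
  obtain ⟨σ, hσ⟩ := Fi22Out.exists_sigma
  set α : MulAut Spor.Fi22 := f.trans f0.symm
  have hcase : Fi22Out.cls α = 1 ∨ Fi22Out.cls α = Fi22Out.cls σ := by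
    obtain ⟨p, q, hpq, huniv⟩ := Nat.card_eq_two_iff.1 Fi22Out.card_out
    have hmem : ∀ c : Cfsg.Out Spor.Fi22, c = p ∨ c = q := fun c => by
      have : c ∈ ({p, q} : Set (Cfsg.Out Spor.Fi22)) := huniv ▸ Set.mem_univ c
      simpa using this
    have hne := Fi22Out.sigma_outer hσ
    rcases hmem (Fi22Out.cls α) with h | h <;> rcases hmem 1 with h1 | h1 <;>
      rcases hmem (Fi22Out.cls σ) with h2 | h2
    all_goals first
      | exact Or.inl (h.trans h1.symm) | exact Or.inr (h.trans h2.symm)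
      | exact absurd (h2.trans h1.symm) hne
  -- a conjugating element of the centraliser
  have key : ∀ π : ℕ → ℕ, (∀ x < 9, π x < 9) →
      (∃ U : Spor.Fi22, ∀ x < 9, α (Fi22Out.gw [x]) = U * Fi22Out.gw [π x] * U⁻¹) →
      ∃ V ∈ Subgroup.centralizer ({L} : Set G), ∀ x < 9, y x = V * n (π x) * V⁻¹ := by
    rintro π hπ ⟨U, hU⟩
    obtain ⟨V, hV⟩ := hχ (f0 U)
    refine ⟨V, V.2, fun x hx => ?_⟩
    have hnx := hnL (π x) (hπ x hx)
    have hVc : Commute (V : G) L := Subgroup.mem_centralizer_singleton_iff.1 V.2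
    have hmem : (V : G) * n (π x) * (V : G)⁻¹ ∈ dperp D L := by
      refine ⟨hD.2.1 _ _ hnx.1, fun h => hnx.2.1 ?_, ?_⟩
      · calc n (π x) = (V : G)⁻¹ * ((V : G) * n (π x) * (V : G)⁻¹) * V := by group
          _ = L := by rw [h, mul_assoc, ← hVc.eq, inv_mul_cancel_left]
      · exact (hVc.symm.mul_right hnx.2.2).mul_right hVc.symm.inv_right
    refine hψ.bij.injOn (hyL x hx) hmem ?_
    have hn' : n (π x) ∈ Subgroup.centralizer ({L} : Set G) :=
      Subgroup.mem_centralizer_singleton_iff.2 hnx.2.2.symm.eq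
    rw [show ψ ((V : G) * n (π x) * (V : G)⁻¹) = χ (V * ⟨n (π x), hn'⟩ * V⁻¹) from
      hψχ (V * ⟨n (π x), hn'⟩ * V⁻¹), map_mul, map_mul, map_inv, hV, ← hψχ ⟨n (π x), hn'⟩,
      ← hf0' _ (hπ x hx), ← map_inv, ← map_mul, ← map_mul, ← hU x hx, ← hf' x hx]
    exact (f0.apply_symm_apply _).symm
  rcases hcase with h | h
  · obtain ⟨v, hv⟩ := (QuotientGroup.eq_one_iff _).1 h
    obtain ⟨V, hV, hyV⟩ := key id (fun x hx => hx) ⟨v, fun x _ => by rw [← hv]; rfl⟩
    have hVc : Commute V L := Subgroup.mem_centralizer_singleton_iff.1 hV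
    refine ⟨V * J * V⁻¹, hD.2.1 _ _ hJ, fun h' => hLJ ?_, fun x hx => ?_⟩
    · rwa [show L = V * L * V⁻¹ from by rw [hVc.eq, mul_inv_cancel_right], Commute.conj_iff] at h'
    · rw [hyV x hx, Commute.conj_iff]
      exact hnJ x hx
  · obtain ⟨v, hv⟩ := (QuotientGroup.eq.1 h.symm : σ⁻¹ * α ∈ Cfsg.Inn Spor.Fi22)
    obtain ⟨V, hV, hyV⟩ := key Fi22Out.sigma Fi22Out.sigma_lt ⟨σ v, fun x hx => by
      have e : α = σ * MulAut.conj v := by rw [hv, mul_inv_cancel_left]
      rw [e, MulAut.mul_apply, MulAut.conj_apply, map_mul, map_mul, map_inv, hσ x hx]⟩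
    refine absurd ?_ hσ1
    have e : ev y (pw Y332.wx' 9) =
        MulAut.conj V (ev (fun x => n (Fi22Out.sigma x)) (pw Y332.wx' 9)) := by
      rw [show MulAut.conj V (ev _ _) = (MulAut.conj V).toMonoidHom (ev _ _) from rfl, map_ev]
      refine ev_congr fun x hx => hyV x ?_
      revert x
      decide
    rw [hx'] at e
    exact (MulAut.conj V).injective (e.symm.trans (map_one _).symm)

end Cfsg.Agent.ThreeTrans.Y542
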