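import Cfsg.Agent.ThreeTrans.SixChain.Listed

/-!
# A commutation forced in type M(22)

Among the common partners of two members that do not commute, a chain of four, a member centralising
it and a further member with the pattern of the second middle point of a square determine whether a
member with the pattern of an end node is a common partner.
-/

set_option autoImplicit false
set_option maxRecDepth 100000

open Cfsg Cfsg.Agent.Classical Cfsg.Agent.Classical.Herm Module

universe u

namespace Cfsg.Agent.ThreeTrans.Y542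

open SixChain

/-- The pattern of `v` for the chain `b, u, f, g` and `w`. -/
def pattV (x : V6) : Bool :=
  !perpTo q1 x && perpTo q2 x && !perpTo q3 x && perpTo q4 x && perpTo uu x

/-- The pattern of `j`. -/
def pattJ (x y : V6) : Bool :=
  perpTo q1 y && perpTo q2 y && perpTo q3 y && !perpTo q4 y && !perpTo uu y && perpTo x y

/-- Proportional codes. -/
def propTo (x y : V6) : Bool :=
  decide (y = x) || decide (y = V6.smul .w x) || decide (y = V6.smul .z x)

/-- The four elements. -/
def elts : List Q4 := [.o, .i, .w, .z]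

/-- A code perpendicular to `q₁, q₂, q₃`. -/
def mk3 (a c d : Q4) : V6 := ⟨a, .o, a, .o, c, d⟩

theorem mk3_all : ([20, 34, 48].all fun n => (full n).all fun x => !(pattV x) || propTo x q2 ||
    elts.all fun a => elts.all fun c => elts.all fun d =>
      !(pattJ x (mk3 a c d) && decide (V6.form (mk3 a c d) (mk3 a c d) = .o)) ||
        (full n).any fun z => propTo z (mk3 a c d)) = true := by
  decide +kernel

theorem mem_elts (a : Q4) : a ∈ elts := by cases a <;> simp [elts]

theorem eq_mk3 {y : V6} (h1 : perpTo q1 y = true) (h2 : perpTo q2 y = true)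
    (h3 : perpTo q3 y = true) : y = mk3 y.c0 y.c4 y.c5 := by
  obtain ⟨y0, y1, y2, y3, y4, y5⟩ := y
  have oh : ∀ p : Q4, Q4.o.add p = p := fun p => rfl
  have ho : ∀ p : Q4, p.add .o = p := fun p => by cases p <;> rfl
  have io : ∀ p : Q4, Q4.i.mul p = p := fun p => rfl
  have oo : ∀ p : Q4, Q4.o.mul p = .o := fun p => rfl
  simp only [perpTo, decide_eq_true_eq, V6.form, q1, q2, q3, Q4.conj, ho, oh, io, oo] at h1 h2 h3
  have key : ∀ p q : Q4, p.add q = .o → p = q := fun p q hpq => by
    cases p <;> cases q <;> simp_all [Q4.add]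
  subst h1
  rw [oh] at h3
  subst h3
  obtain rfl := key _ _ h2
  rfl

variable {F : Type} [Field F] {θ : F →+* F} {k : F} {e : Fin 6 → Fin 6 → F}
  (hFr : Frame (hermB 6 θ) k e)
include hFr

theorem exists_code (y : Fin 6 → F) : ∃ x : V6, x.val k e = y := by
  classical
  have hcode : ∀ a : F, ∃ b : Q4, b.val k = a := fun a => by
    rcases hFr.all a with rfl | rfl | rfl | rfl
    exacts [⟨.o, rfl⟩, ⟨.i, rfl⟩, ⟨.w, rfl⟩, ⟨.z, rfl⟩]
  have hsum : ∀ g : Fin 6 → F, ∑ i, g i • e i = g 0 • e 0 + g 1 • e 1 + g 2 • e 2 + g 3 • e 3 +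
      g 4 • e 4 + g 5 • e 5 := fun g => by simp [Fin.sum_univ_six]
  have hind : LinearIndependent F e := by
    refine Fintype.linearIndependent_iff.2 fun g hg => ?_
    choose b hb using fun i => hcode (g i)
    have h0 : (⟨b 0, b 1, b 2, b 3, b 4, b 5⟩ : V6).val k e = 0 := by
      rw [← hg, hsum]
      simp only [V6.val, hb]
    have h1 := V6.eq_zero_of_val hFr h0
    simp only [V6.zero, V6.mk.injEq] at h1
    obtain ⟨e0, e1, e2, e3, e4, e5⟩ := h1
    intro i
    rw [← hb i]
    fin_cases i <;> simp [e0, e1, e2, e3, e4, e5, Q4.val]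
  have hspan : Submodule.span F (Set.range e) = ⊤ :=
    hind.span_eq_top_of_card_eq_finrank (by simp)
  obtain ⟨c, hc⟩ := (Submodule.mem_span_range_iff_exists_fun F).1
    (hspan.symm ▸ Submodule.mem_top : y ∈ Submodule.span F (Set.range e))
  choose b hb using fun i => hcode (c i)
  refine ⟨⟨b 0, b 1, b 2, b 3, b 4, b 5⟩, ?_⟩
  rw [← hc, hsum]
  simp only [V6.val, hb]

omit hFr
variable {X : Type u} [Group X] [Finite X] {E : Set X}

/-- The end node `k` of one arm commutes with the end node `j` of the other. -/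
theorem commute_ends (hE : IsThreeTranspositionGroup E) (h22 : IsOfTypeM22 X E) {l k b u f g w v j : X}
    (hl : l ∈ E) (hk : k ∈ E) (hlk : ¬ Commute l k)
    (hb : b ∈ pairPerp E l k) (hu : u ∈ pairPerp E l k) (hf : f ∈ pairPerp E l k)
    (hg : g ∈ pairPerp E l k) (hw : w ∈ pairPerp E l k) (hv : v ∈ pairPerp E l k)
    (hj : j ∈ dperp E l)
    (bu : ¬ Commute b u) (uf : ¬ Commute u f) (fg : ¬ Commute f g)
    (bf : Commute b f) (bg : Commute b g) (ug : Commute u g)
    (wb : Commute w b) (wu : Commute w u) (wf : Commute w f) (wg : Commute w g)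
    (vu : v ≠ u) (bv : ¬ Commute b v) (uv : Commute u v) (fv : ¬ Commute f v) (gv : Commute g v)
    (wv : Commute w v)
    (bj : Commute b j) (uj : Commute u j) (fj : Commute f j) (gj : ¬ Commute g j)
    (wj : ¬ Commute w j) (vj : Commute v j) : Commute k j := by
  have hcl := closedSet_of_group hE
  set q : Fin 4 → X := ![b, u, f, g] with hqdef
  have hq : ∀ i, q i ∈ pairPerp E l k := by
    intro i
    fin_cases i <;> assumption
  have hqq : ∀ i i' : Fin 4, Commute (q i) (q i') ↔ ¬ Adj i i' := by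
    intro i i'
    fin_cases i <;> fin_cases i' <;>
      simp [q, Adj, bu, uf, fg, bf, bg, ug, bf.symm, bg.symm, ug.symm,
        mt Commute.symm bu, mt Commute.symm uf, mt Commute.symm fg]
  have hwq : ∀ i, Commute w (q i) := by
    intro i
    fin_cases i <;> assumption
  have hsub : ∀ {y}, y ∈ pairPerp E l k → y ∈ dperp E l := fun hy => pairPerp_subset hE hlk hy
  obtain ⟨f', hf', hfq, hfw⟩ := exists_perp_point hE h22 hl (fun i => hsub (hq i)) hqq (hsub hw) hwq
  obtain ⟨F, _, θ, hF4, hB, hmod⟩ := layer_model hE h22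
  obtain ⟨tp, hM⟩ := hmod l hl
  obtain ⟨κ, ev, hFr, hpts⟩ := frame_points hB hF4 hM (fun i => hsub (hq i)) hqq (hsub hw) hwq hf'
    hfq hfw
  obtain ⟨n, hn, hL⟩ := listed_of hE h22 hl hk hlk hB hM hFr hq hw hpts
  have hpts' : ∀ i : Fin 6, ∃ P : UModel.Pt (hermB 6 θ), P.1 = ev i ∧
      tp P = ![b, u, f, g, w, f'] i := fun i => by
    obtain ⟨P, hP, hPi⟩ := hpts i
    exact ⟨P, hP, hPi.trans (by fin_cases i <;> rfl)⟩
  obtain ⟨x, hx, Pv, hPv, hPvv⟩ := hL.2 v hv
  obtain ⟨Pj, hPj⟩ := UModel.exists_tp hM hj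
  obtain ⟨y, hy⟩ := exists_code hFr Pj.1
  have cv : ∀ i, Commute (![b, u, f, g, w, f'] i) v ↔ perpTo (unitV i) x = true := fun i =>
    hPvv ▸ comm_unit hM hFr hpts' hPv i
  have cj : ∀ i, Commute (![b, u, f, g, w, f'] i) j ↔ perpTo (unitV i) y = true := fun i =>
    hPj ▸ comm_unit hM hFr hpts' hy.symm i
  have v0 : perpTo q1 x = false := Bool.eq_false_iff.2 fun h => bv ((cv 0).2 h)
  have v1 : perpTo q2 x = true := (cv 1).1 uv
  have v2 : perpTo q3 x = false := Bool.eq_false_iff.2 fun h => fv ((cv 2).2 h)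
  have v3 : perpTo q4 x = true := (cv 3).1 gv
  have v4 : perpTo uu x = true := (cv 4).1 wv
  have j0 : perpTo q1 y = true := (cj 0).1 bj
  have j1 : perpTo q2 y = true := (cj 1).1 uj
  have j2 : perpTo q3 y = true := (cj 2).1 fj
  have j3 : perpTo q4 y = false := Bool.eq_false_iff.2 fun h => gj ((cj 3).2 h)
  have j4 : perpTo uu y = false := Bool.eq_false_iff.2 fun h => wj ((cj 4).2 h)
  have j5 : perpTo x y = true := (comm_code hM hFr hPv hy.symm).1 (hPvv ▸ hPj ▸ vj)
  have hxu : propTo x q2 = false := by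
    refine Bool.eq_false_iff.2 fun h => vu ?_
    obtain ⟨P, hP, hPu⟩ := hpts' 1
    rw [← hPvv, show u = tp P from hPu.symm]
    refine (hM.eq_iff Pv P).2 ?_
    have e1 : P.1 = q2.val κ ev := hP.trans (val_unitV κ ev 1).symm
    simp only [propTo, Bool.or_eq_true, decide_eq_true_eq] at h
    rcases h with (h | h) | h
    · exact ⟨1, by rw [e1, h, hPv, one_smul]⟩
    · exact ⟨Q4.w.val κ, by rw [e1, h, V6.val_smul hFr, hPv]⟩
    · exact ⟨Q4.z.val κ, by rw [e1, h, V6.val_smul hFr, hPv]⟩
  have hy0 : V6.form y y = .o := Q4.val_eq_zero hFr (by rw [← V6.val_form hFr, hy]; exact Pj.2.2)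
  have hye := eq_mk3 j0 j1 j2
  have h := mk3_all
  simp only [List.all_eq_true, Bool.or_eq_true, List.any_eq_true] at h
  have hpv : pattV x = true := by simp [pattV, v0, v1, v2, v3, v4]
  have h' := ((h n hn x hx).resolve_left (by simp [hpv, hxu]))
    y.c0 (mem_elts _) y.c4 (mem_elts _) y.c5 (mem_elts _)
  rw [← hye] at h'
  obtain ⟨z, hz, hzy⟩ := h'.resolve_left (by simp [pattJ, j0, j1, j2, j3, j4, j5, hy0])
  obtain ⟨Pz, hPz, hzW⟩ := hL.1 z hz
  have e : j = tp Pz := by
    rw [← hPj]
    symm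
    refine (hM.eq_iff Pz Pj).2 ?_
    simp only [propTo, Bool.or_eq_true, decide_eq_true_eq] at hzy
    rcases hzy with (h | h) | h
    · exact ⟨1, by rw [← hy, h, hPz, one_smul]⟩
    · exact ⟨Q4.w.val κ, by rw [← hy, h, V6.val_smul hFr, hPz]⟩
    · exact ⟨Q4.z.val κ, by rw [← hy, h, V6.val_smul hFr, hPz]⟩
  rw [e]
  exact hzW.2.2

end Cfsg.Agent.ThreeTrans.Y542
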