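import Cfsg.Agent.Fi23Transp.Main
import Cfsg.Agent.CosetCert.Sp44.InHe

/-!
# Deciding identities and commutations in the presented Fi₂₃

Words are lists of the numbers of the generators in the table of degree 31671.
-/

set_option autoImplicit false
set_option maxRecDepth 100000

namespace Cfsg.Agent.ThreeTrans.Y542

open Cfsg.Agent.CosetCert Cfsg.Agent.Fi23Centralizer Cfsg.Spor

/-- The presented group. -/
abbrev F23 : Type := Cfsg.Spor.Fi23

/-- The element of a word of numbers. -/
def gw (w : List Nat) : F23 :=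
  PresentedGroup.mk rels23 (FreeGroup.mk (w.map Fi23Index31671.dec))

theorem gw_nil : gw [] = 1 := map_one _

theorem gw_append (u v : List Nat) : gw (u ++ v) = gw u * gw v := by
  rw [gw, gw, gw, List.map_append, ← FreeGroup.mul_mk, map_mul]

theorem gw_cons (x : Nat) (v : List Nat) : gw (x :: v) = gw [x] * gw v := gw_append [x] v

theorem code_dec : ∀ x < 10,
    Data.code Fi23Index31671.data.iv Fi23Index31671.enc (Fi23Index31671.dec x) = x := by
  decide +kernel

theorem codes_dec {w : List Nat} (hw : ∀ x ∈ w, x < 10) :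
    (w.map Fi23Index31671.dec).map (Data.code Fi23Index31671.data.iv Fi23Index31671.enc) = w := by
  rw [List.map_map]
  conv_rhs => rw [← List.map_id w]
  exact List.map_congr_left fun x hx => code_dec x (hw x hx)

/-- A word uses the ten numbers only. -/
def lt10 (w : List Nat) : Bool := w.all fun x => decide (x < 10)

theorem lt10_spec {w : List Nat} (h : lt10 w = true) : ∀ x ∈ w, x < 10 := fun x hx =>
  of_decide_eq_true (List.all_eq_true.1 h x hx)

/-- A word fixes the base points. -/
noncomputable def idCheck (w : List Nat) : Bool :=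
  lt10 w && (Fi23Order.levels.map Data.Level.base).all fun b =>
    Nat.beq (Fi23Index31671.data.fwd w b) b

theorem gw_eq_one {w : List Nat} (h : idCheck w = true) : gw w = 1 := by
  simp only [idCheck, Bool.and_eq_true] at h
  obtain ⟨φ, π, -, hfwd⟩ := Data.enumeration Fi23Index31671.valid Fi23Index31671.spells
  have hc := codes_dec (lt10_spec h.1)
  refine Data.eq_one_of_fixes_bases Fi23Index31671.valid Fi23Index31671.spells φ hfwd
    Fi23Order.card_bound.1 Fi23Order.card_bound.2 (by norm_num) Fi23Order.levels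
    Fi23Order.levels_ok (by decide +kernel) _ ?_ ?_
  · rw [hc]
    exact List.all_eq_true.2 fun x hx => Nat.ble_eq_true_of_le (lt10_spec h.1 x hx)
  · rw [hc]
    exact h.2

/-- A word moves a base point. -/
noncomputable def neCheck (w : List Nat) : Bool :=
  lt10 w && (Fi23Order.levels.map Data.Level.base).any fun b =>
    Nat.ble (b + 1) 31671 && !(Nat.beq (Fi23Index31671.data.fwd w b) b)

theorem gw_ne_one {w : List Nat} (h : neCheck w = true) : gw w ≠ 1 := by
  simp only [neCheck, Bool.and_eq_true, List.any_eq_true] at h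
  obtain ⟨hw, b, -, hb, hne⟩ := h
  obtain ⟨φ, π, -, hfwd⟩ := Data.enumeration Fi23Index31671.valid Fi23Index31671.spells
  intro h1
  have e := hfwd (w.map Fi23Index31671.dec) ⟨b, Nat.le_of_ble_eq_true hb⟩
  rw [show PresentedGroup.mk rels23 (FreeGroup.mk (w.map Fi23Index31671.dec)) = 1 from h1, map_one,
    inv_one, Equiv.Perm.one_apply, codes_dec (lt10_spec hw)] at e
  rw [← show b = _ from e, Nat.beq_refl] at hne
  simp at hne

theorem gw_sq : ∀ x < 10, gw [x] * gw [x] = 1 := by
  have h : ((List.range 10).all fun x => idCheck [x, x]) = true := by decide +kernel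
  intro x hx
  rw [← gw_append]
  exact gw_eq_one (List.all_eq_true.1 h x (List.mem_range.2 hx))

theorem gw_reverse {w : List Nat} (hw : ∀ x ∈ w, x < 10) : gw w.reverse = (gw w)⁻¹ := by
  induction w with
  | nil => simp [gw_nil]
  | cons x w ih =>
    rw [List.reverse_cons, gw_append, ih (fun y hy => hw y (List.mem_cons_of_mem _ hy)),
      gw_cons x w, mul_inv_rev, inv_eq_of_mul_eq_one_right (gw_sq x (hw x (List.mem_cons_self ..)))]

/-- The word of a commutator. -/
def commW (u v : List Nat) : List Nat := u ++ v ++ u.reverse ++ v.reverse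

theorem gw_commW {u v : List Nat} (hu : ∀ x ∈ u, x < 10) (hv : ∀ x ∈ v, x < 10) :
    gw (commW u v) = gw u * gw v * (gw u)⁻¹ * (gw v)⁻¹ := by
  rw [commW, gw_append, gw_append, gw_append, gw_reverse hu, gw_reverse hv]

theorem commute_iff {u v : List Nat} (hu : ∀ x ∈ u, x < 10) (hv : ∀ x ∈ v, x < 10) :
    Commute (gw u) (gw v) ↔ gw (commW u v) = 1 := by
  rw [gw_commW hu hv, mul_inv_eq_one, mul_inv_eq_iff_eq_mul]
  exact Iff.rfl

/-- Two words commute. -/
noncomputable def cmCheck (u v : List Nat) : Bool :=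
  lt10 u && lt10 v && idCheck (commW u v)

/-- Two words do not commute. -/
noncomputable def ncCheck (u v : List Nat) : Bool :=
  lt10 u && lt10 v && neCheck (commW u v)

theorem commute_of {u v : List Nat} (h : cmCheck u v = true) : Commute (gw u) (gw v) := by
  simp only [cmCheck, Bool.and_eq_true] at h
  exact (commute_iff (lt10_spec h.1.1) (lt10_spec h.1.2)).2 (gw_eq_one h.2)

theorem not_commute_of {u v : List Nat} (h : ncCheck u v = true) : ¬ Commute (gw u) (gw v) := by
  simp only [ncCheck, Bool.and_eq_true] at h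
  exact fun hc => gw_ne_one h.2 ((commute_iff (lt10_spec h.1.1) (lt10_spec h.1.2)).1 hc)

/-- Two words have one value. -/
noncomputable def eqCheck (u v : List Nat) : Bool := lt10 v && idCheck (u ++ v.reverse)

theorem eq_of {u v : List Nat} (h : eqCheck u v = true) : gw u = gw v := by
  simp only [eqCheck, Bool.and_eq_true] at h
  have e := gw_eq_one h.2
  rwa [gw_append, gw_reverse (lt10_spec h.1), mul_inv_eq_one] at e

/-- The point has the pattern. -/
noncomputable def pattAt (pat : List (Nat × Bool)) (p : Nat) : Bool :=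
  pat.all fun e => Nat.beq (Fi23Index31671.data.fwd [e.1] p) p == e.2

/-- At most the given point has the pattern. -/
noncomputable def pattCheck (pat : List (Nat × Bool)) (p₀ : Nat) : Bool :=
  (pat.all fun e => decide (e.1 < 10)) &&
    allFrom (fun p => !(pattAt pat p) || Nat.beq p p₀) 0 31671

/-- A path from the point of `a` to the base point. -/
def pathW : List Nat :=
  [1, 0, 2, 3, 8, 4, 3, 2, 5, 4, 3, 8, 6, 5, 4, 3, 2, 1, 7, 6, 5, 4, 3, 2, 8, 3, 4, 5, 6, 7]

theorem a_to_z : eqCheck (pathW.reverse ++ 0 :: pathW) zWord = true := by decide +kernel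

theorem z_eq_gw : Fi23Transp.z = gw zWord := by
  have h : zWord.map Fi23Index31671.dec = zList := by decide +kernel
  rw [gw, h]

theorem isConj_a_z : IsConj (gw [0]) Fi23Transp.z := by
  have h := eq_of a_to_z
  rw [gw_append, gw_cons, gw_reverse (by decide)] at h
  rw [isConj_iff]
  exact ⟨(gw pathW)⁻¹, by rw [inv_inv, z_eq_gw, ← h, mul_assoc]⟩

/-- Conjugates of `a` with the same pattern, had by one point only, are equal. -/
theorem eq_of_pattern {pat : List (Nat × Bool)} {p₀ : Nat} (h : pattCheck pat p₀ = true) {u v : F23}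
    (hu : IsConj (gw [0]) u) (hv : IsConj (gw [0]) v)
    (pu : ∀ e ∈ pat, (Commute (gw [e.1]) u ↔ e.2 = true))
    (pv : ∀ e ∈ pat, (Commute (gw [e.1]) v ↔ e.2 = true)) : u = v := by
  simp only [pattCheck, Bool.and_eq_true] at h
  obtain ⟨-, -, -, hcz⟩ := Fi23Transp.main
  obtain ⟨φ, π, hπ, hfwd⟩ := Data.enumeration Fi23Index31671.valid Fi23Index31671.spells
  have hstab := Data.apply_base_iff Fi23Index31671.valid Fi23Index31671.spells φ π hπ hfwd
  set c0 : Fin Fi23Index31671.data.n := ⟨0, Fi23Index31671.valid.n_pos⟩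
  have hfix : ∀ g : F23, Commute g Fi23Transp.z ↔ φ g c0 = c0 := fun g => by
    refine Iff.trans ?_ (hstab g).symm
    rw [show Data.sub rels23 Fi23Index31671.subGens = Fi23Centralizer.H from rfl, ← hcz,
      Subgroup.mem_centralizer_singleton_iff]
    exact Iff.rfl
  have key : ∀ w : F23, IsConj (gw [0]) w → (∀ e ∈ pat, (Commute (gw [e.1]) w ↔ e.2 = true)) →
      ∃ g : F23, g * Fi23Transp.z * g⁻¹ = w ∧ ((φ g c0 : Fin _) : Nat) = p₀ := by
    intro w hw pw
    obtain ⟨g, hg⟩ := isConj_iff.1 (isConj_a_z.symm.trans hw)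
    refine ⟨g, hg, ?_⟩
    have hp : ((φ g c0 : Fin _) : Nat) < 31671 := (φ g c0).2
    have hall := (allFrom_iff _ _ _).1 h.2 _ (Nat.zero_le _) (by rw [Nat.zero_add]; exact hp)
    simp only [Bool.or_eq_true, Bool.not_eq_true'] at hall
    refine Nat.eq_of_beq_eq_true (hall.resolve_left ?_)
    rw [Bool.not_eq_false, pattAt, List.all_eq_true]
    intro e he
    have hx : e.1 < 10 := of_decide_eq_true (List.all_eq_true.1 h.1 e he)
    have hf := hfwd ([e.1].map Fi23Index31671.dec) (φ g c0)
    rw [codes_dec (by simpa using hx)] at hf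
    have hiff : Commute (gw [e.1]) w ↔ φ (gw [e.1]) (φ g c0) = φ g c0 := by
      rw [← hg]
      constructor
      · intro hc
        have h1 : Commute (g⁻¹ * gw [e.1] * g) Fi23Transp.z := by
          have := hc.map (MulAut.conj g⁻¹).toMonoidHom
          simpa [mul_assoc] using this
        have h2 := (hfix _).1 h1
        rw [map_mul, map_mul, map_inv, Equiv.Perm.mul_apply, Equiv.Perm.mul_apply,
          Equiv.Perm.inv_eq_iff_eq] at h2
        exact h2
      · intro hc
        have h1 : Commute (g⁻¹ * gw [e.1] * g) Fi23Transp.z := (hfix _).2 (by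
          rw [map_mul, map_mul, map_inv, Equiv.Perm.mul_apply, Equiv.Perm.mul_apply,
            Equiv.Perm.inv_eq_iff_eq]
          exact hc)
        have := h1.map (MulAut.conj g).toMonoidHom
        simpa [mul_assoc] using this
    rw [beq_iff_eq, Bool.eq_iff_iff, ← pw e he, hiff]
    constructor
    · intro hb
      have h3 : (φ (gw [e.1]))⁻¹ (φ g c0) = φ g c0 := Fin.ext (hf.trans (Nat.eq_of_beq_eq_true hb))
      exact (Equiv.Perm.inv_eq_iff_eq.1 h3).symm
    · intro hc
      have h3 : (φ (gw [e.1]))⁻¹ (φ g c0) = φ g c0 := Equiv.Perm.inv_eq_iff_eq.2 hc.symm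
      have h4 := hf
      rw [show PresentedGroup.mk rels23 (FreeGroup.mk ([e.1].map Fi23Index31671.dec)) = gw [e.1]
        from rfl, h3] at h4
      rw [← h4]
      exact Nat.beq_refl _
  obtain ⟨g, hg, hgp⟩ := key u hu pu
  obtain ⟨g', hg', hgp'⟩ := key v hv pv
  have he : φ g c0 = φ g' c0 := Fin.ext (hgp.trans hgp'.symm)
  have h1 : Commute (g'⁻¹ * g) Fi23Transp.z := (hfix _).2 (by
    rw [map_mul, map_inv, Equiv.Perm.mul_apply, he, ← Equiv.Perm.mul_apply, inv_mul_cancel,
      Equiv.Perm.one_apply])
  calc u = g' * ((g'⁻¹ * g) * Fi23Transp.z) * g⁻¹ := by rw [← hg]; group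
    _ = g' * (Fi23Transp.z * (g'⁻¹ * g)) * g⁻¹ := by rw [h1.eq]
    _ = v := by rw [← hg']; group

end Cfsg.Agent.ThreeTrans.Y542
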